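import Groth.Agent.AVDegLib.MulN
import Groth.Agent.H23.MulEtale
import Groth.Agent.S7785
import Groth.Agent.S7801

/-!
Multiplication by a nonzero integer on an abelian scheme.
-/

set_option autoImplicit false
set_option linter.style.haveILetI false

universe u

open CategoryTheory CategoryTheory.Limits MonoidalCategory CartesianMonoidalCategory MonObj GrpObj AlgebraicGeometry

namespace Groth.Agent.TorsPtsLib

variable {S : Scheme.{u}} (X : Over S) [GrpObj X] [IsProper X.hom] [Flat X.hom]
  [LocallyOfFinitePresentation X.hom] [GeometricallyReduced X.hom] [GeometricallyConnected X.hom]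

omit [LocallyOfFinitePresentation X.hom] [IsProper X.hom] [Flat X.hom] [GeometricallyReduced X.hom] [GeometricallyConnected X.hom] in
theorem isMonHom_pow' [IsCommMonObj X] (n : ℕ) : IsMonHom (𝟙 X ^ n : X ⟶ X) :=
  { one_hom := by
      rw [MonObj.comp_pow, Category.comp_id]
      have : η[X] = 1 := by rw [Hom.one_def, toUnit_unique (toUnit (𝟙_ _)) (𝟙 _), Category.id_comp]
      rw [this, _root_.one_pow]
    mul_hom := by
      have h : μ[X] = fst X X * snd X X := by rw [Hom.mul_def, lift_fst_snd, Category.id_comp]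
      rw [h, MonObj.comp_pow, Category.comp_id, _root_.mul_pow, MonObj.comp_mul,
        tensorHom_fst, tensorHom_snd, MonObj.comp_pow, MonObj.comp_pow, Category.comp_id, Category.comp_id] }

theorem mul_props_nat (g : S → ℕ) (hg : ∀ s : S, topologicalKrullDim ↥(X.hom.fiber s) = g s) (n : ℕ) (hn : n ≠ 0) :
    IsFinite (𝟙 X ^ n).left ∧ Flat (𝟙 X ^ n).left ∧ Surjective (𝟙 X ^ n).left ∧
      ∀ s : S, Scheme.Hom.finrank (𝟙 X ^ n).left (η[X].left s) = n ^ (2 * g s) := by
  set φ : X ⟶ X := 𝟙 X ^ n
  let σ : ∀ s : S, Spec (S.residueField s) ⟶ S := fun s => S.fromSpecResidueField s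
  let Xs : ∀ s : S, Over (Spec (CommRingCat.of (S.residueField s))) := fun s => (Over.pullback (σ s)).obj X
  letI G : ∀ s, GrpObj (Xs s) := fun s => Functor.grpObjObj
  have hP : ∀ s, IsProper (Xs s).hom := fun s => inferInstanceAs (IsProper (pullback.snd X.hom (σ s)))
  have hI : ∀ s, GeometricallyIntegral (Xs s).hom := fun s => by
    haveI := hP s
    haveI : GeometricallyReduced (Xs s).hom := inferInstanceAs (GeometricallyReduced (pullback.snd X.hom (σ s)))
    haveI : GeometricallyConnected (Xs s).hom := inferInstanceAs (GeometricallyConnected (pullback.snd X.hom (σ s)))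
    haveI : Subsingleton (Spec (CommRingCat.of (S.residueField s))) :=
      inferInstanceAs (Subsingleton (PrimeSpectrum (S.residueField s)))
    haveI : Nonempty (Xs s).left := ⟨(η[Xs s]).left (IsLocalRing.closedPoint (S.residueField s))⟩
    haveI : ConnectedSpace (Xs s).left := GeometricallyConnected.connectedSpace_of_subsingleton (f := (Xs s).hom)
    exact Groth.Agent.H23.MaxAbelian.geometricallyIntegral_of_connected (Xs s)
  have hmap : ∀ s, ((Over.pullback (σ s)).map φ) = (𝟙 (Xs s) ^ (n : ℤ)) := fun s => by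
    rw [zpow_natCast]; exact Groth.Agent.H23.MulEtale.map_pow (σ s) n
  have hfib : ∀ s, IsFinite ((Over.pullback (σ s)).map φ).left ∧ Surjective ((Over.pullback (σ s)).map φ).left := fun s => by
    haveI := hP s
    haveI := hI s
    rw [hmap s]
    exact ⟨(AVDegLib.zpow_props (A := Xs s) _ (Int.natCast_ne_zero.mpr hn)).1,
      (AVDegLib.zpow_props (A := Xs s) _ (Int.natCast_ne_zero.mpr hn)).2.2⟩
  have hsq := fun s => Groth.Agent.H23.MulEtale.isPullback_map (X := X) (σ s) φ
  have hlift : ∀ y : X.left, ∃ z : ↥(pullback X.hom (σ (X.hom y))), pullback.fst X.hom (σ (X.hom y)) z = y := fun y => by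
    have h : y ∈ Set.range (pullback.fst X.hom (σ (X.hom y))) := by
      rw [Scheme.Pullback.range_fst, Set.mem_preimage, Scheme.range_fromSpecResidueField]
      rfl
    exact h
  haveI hsurj : Surjective φ.left := ⟨fun y => by
    obtain ⟨z, hz⟩ := hlift y
    haveI := (hfib (X.hom y)).2
    obtain ⟨w, hw⟩ := ((Over.pullback (σ (X.hom y))).map φ).left.surjective z
    refine ⟨pullback.fst X.hom (σ (X.hom y)) w, ?_⟩
    refine Eq.trans ?_ hz
    refine Eq.trans ?_ (congrArg (pullback.fst X.hom (σ (X.hom y))) hw)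
    exact (Scheme.Hom.comp_apply _ _ _).symm.trans
      ((congrArg (fun (m : pullback X.hom (σ (X.hom y)) ⟶ X.left) => m w) (hsq (X.hom y)).w).trans
        (Scheme.Hom.comp_apply _ _ _))⟩
  haveI : IsProper φ.left := by
    have : IsProper (φ.left ≫ X.hom) := by rw [Over.w]; infer_instance
    exact IsProper.of_comp _ X.hom
  haveI : LocallyQuasiFinite φ.left := by
    refine LocallyQuasiFinite.of_finite_preimage_singleton φ.left fun y => ?_
    obtain ⟨z, hz⟩ := hlift y
    haveI := (hfib (X.hom y)).1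
    refine ((Scheme.Hom.finite_preimage_singleton ((Over.pullback (σ (X.hom y))).map φ).left z).image
      (pullback.fst X.hom (σ (X.hom y)))).subset fun x hx => ?_
    have hxs : X.hom x = X.hom y := by
      rw [← show φ.left x = y from hx, ← Scheme.Hom.comp_apply, Over.w]
    obtain ⟨x', hx'⟩ : x ∈ Set.range (pullback.fst X.hom (σ (X.hom y))) := by
      rw [Scheme.Pullback.range_fst, Set.mem_preimage, Scheme.range_fromSpecResidueField, hxs]
      rfl
    refine ⟨x', ?_, hx'⟩
    refine (pullback.fst X.hom (σ (X.hom y))).isEmbedding.injective ?_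
    rw [hz, ← Scheme.Hom.comp_apply, ← (hsq _).w, Scheme.Hom.comp_apply, hx']
    exact hx
  haveI : IsFinite φ.left := IsFinite.of_isProper_of_locallyQuasiFinite _
  haveI : IsCommMonObj X := S7785.result X
  haveI : IsMonHom φ := isMonHom_pow' X n
  haveI hflat : Flat φ.left := (S7801.result X X φ).1
  refine ⟨inferInstance, inferInstance, inferInstance, fun s => ?_⟩
  haveI := hP s
  haveI := hI s
  obtain ⟨z, hz⟩ : η[X].left s ∈ Set.range (pullback.fst X.hom (σ s)) := by
    rw [Scheme.Pullback.range_fst, Set.mem_preimage, Scheme.range_fromSpecResidueField]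
    show X.hom (η[X].left s) = s
    rw [← Scheme.Hom.comp_apply, Over.w η[X]]
    rfl
  rw [← hz, ← Scheme.Hom.finrank_of_isPullback _ _ _ _ (hsq s) z, hmap s]
  have hgs : topologicalKrullDim ↥(Xs s).left = g s := hg s
  rw [AVDegLib.finrank_zpow (A := Xs s) hgs _ (Int.natCast_ne_zero.mpr hn) z, Int.natAbs_natCast]

theorem mul_props (g : S → ℕ) (hg : ∀ s : S, topologicalKrullDim ↥(X.hom.fiber s) = g s) (n : ℤ) (hn : n ≠ 0) :
    IsFinite (𝟙 X ^ n).left ∧ Flat (𝟙 X ^ n).left ∧ Surjective (𝟙 X ^ n).left ∧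
      ∀ s : S, Scheme.Hom.finrank (𝟙 X ^ n).left (η[X].left s) = n.natAbs ^ (2 * g s) := by
  obtain ⟨h1, h2, h3, h4⟩ := mul_props_nat X g hg n.natAbs (Int.natAbs_ne_zero.mpr hn)
  rcases Int.natAbs_eq n with h | h
  · have e : (𝟙 X ^ n : X ⟶ X) = 𝟙 X ^ n.natAbs := by conv_lhs => rw [h, zpow_natCast]
    rw [e]
    exact ⟨h1, h2, h3, h4⟩
  · have e : (𝟙 X ^ n : X ⟶ X) = (𝟙 X)⁻¹ ≫ (𝟙 X ^ n.natAbs) := by
      conv_lhs => rw [h, zpow_neg, zpow_natCast]
      rw [MonObj.comp_pow, Category.comp_id, inv_pow]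
    have hi : ((𝟙 X)⁻¹ : X ⟶ X) ≫ (𝟙 X)⁻¹ = 𝟙 X := by rw [GrpObj.comp_inv, Category.comp_id, _root_.inv_inv]
    haveI : IsIso ((𝟙 X)⁻¹ : X ⟶ X).left :=
      ⟨_, by rw [← Over.comp_left, hi, Over.id_left], by rw [← Over.comp_left, hi, Over.id_left]⟩
    rw [e, Over.comp_left]
    exact ⟨inferInstance, inferInstance, inferInstance, fun s => by rw [Scheme.Hom.finrank_comp_left_of_isIso]; exact h4 s⟩

end Groth.Agent.TorsPtsLib
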