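import Groth.Agent.TorsPtsLib.BC

/-!
Lifting geometric points along finite surjective maps.
-/

set_option autoImplicit false
set_option linter.style.haveILetI false

universe u

open CategoryTheory CategoryTheory.Limits MonoidalCategory CartesianMonoidalCategory MonObj AlgebraicGeometry

namespace Groth.Agent.TorsPtsLib

variable {S : Scheme.{u}} {Ω : Type u} [Field Ω] [IsAlgClosed Ω] (j : Spec (CommRingCat.of Ω) ⟶ S) {X Y : Over S}

theorem exists_lift_point (h : X ⟶ Y) [IsFinite h.left] [Surjective h.left] (b : Over.mk j ⟶ Y) :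
    ∃ a : Over.mk j ⟶ X, a ≫ h = b := by
  let Q := pullback b.left h.left
  let q : Q ⟶ Spec (CommRingCat.of Ω) := pullback.fst b.left h.left
  haveI : IsFinite q := MorphismProperty.of_isPullback (P := @IsFinite) (IsPullback.of_hasPullback b.left h.left).flip inferInstance
  haveI : Surjective q := MorphismProperty.of_isPullback (P := @Surjective) (IsPullback.of_hasPullback b.left h.left).flip inferInstance
  haveI : JacobsonSpace Q := LocallyOfFiniteType.jacobsonSpace q
  obtain ⟨x, -⟩ := q.surjective (IsLocalRing.closedPoint Ω)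
  obtain ⟨y, -, hy⟩ := nonempty_inter_closedPoints (X := Q) ⟨x, Set.mem_univ x⟩
    isOpen_univ.isLocallyClosed
  let t := pointOfClosedPoint q y hy
  have ht : t ≫ q = 𝟙 _ := pointOfClosedPoint_comp q y hy
  have hlift : (t ≫ pullback.snd b.left h.left) ≫ h.left = b.left := by
    rw [Category.assoc, ← pullback.condition, ← Category.assoc]
    exact (congrArg (· ≫ b.left) ht).trans (Category.id_comp _)
  refine ⟨Over.homMk (t ≫ pullback.snd b.left h.left) ?_, Over.OverMorphism.ext hlift⟩
  have := congrArg (· ≫ Y.hom) hlift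
  simp only [Category.assoc] at this ⊢
  rw [Over.w h] at this
  exact this.trans (Over.w b)

theorem finite_fibre_points (h : X ⟶ Y) [IsFinite h.left] (b : Over.mk j ⟶ Y) :
    Finite {a : Over.mk j ⟶ X // a ≫ h = b} := by
  let Q := pullback b.left h.left
  let q : Q ⟶ Spec (CommRingCat.of Ω) := pullback.fst b.left h.left
  haveI : IsFinite q := MorphismProperty.of_isPullback (P := @IsFinite) (IsPullback.of_hasPullback b.left h.left).flip inferInstance
  haveI : Finite Q := Set.finite_univ_iff.mp (((Scheme.Hom.finite_preimage_singleton q (IsLocalRing.closedPoint Ω))).subset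
    fun x _ => Subsingleton.elim (α := PrimeSpectrum Ω) _ _)
  haveI : Finite {t : Spec (CommRingCat.of Ω) ⟶ Q // t ≫ q = 𝟙 _} := Finite.of_equiv _ (pointEquivClosedPoint q).symm
  refine Finite.of_injective (fun a : {a : Over.mk j ⟶ X // a ≫ h = b} =>
    (⟨pullback.lift (𝟙 _) a.1.left ((Category.id_comp _).trans (congrArg CommaMorphism.left a.2).symm),
      pullback.lift_fst _ _ _⟩ : {t : Spec (CommRingCat.of Ω) ⟶ Q // t ≫ q = 𝟙 _})) ?_
  intro a a' e
  have e1 := congrArg (fun t => t.1 ≫ pullback.snd b.left h.left) e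
  simp only [pullback.lift_snd] at e1
  exact Subtype.ext (Over.OverMorphism.ext e1)

variable [GrpObj X] [GrpObj Y] [IsCommMonObj X] [IsCommMonObj Y]

/-- Torsion of an isogenous pair. -/
theorem card_tors_le (h : X ⟶ Y) [IsMonHom h] [IsFinite h.left] [Surjective h.left] (n : ℕ)
    [Finite (AbDual.torsPts X n (Over.mk j))] [Finite (AbDual.torsPts Y n (Over.mk j))] :
    Nat.card (AbDual.torsPts X n (Over.mk j)) ≤
        Nat.card {a : Over.mk j ⟶ X // a ≫ h = 1} * Nat.card (AbDual.torsPts Y n (Over.mk j)) ∧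
      Nat.card (AbDual.torsPts Y n (Over.mk j)) ≤
        Nat.card {a : Over.mk j ⟶ X // a ≫ h = 1} * Nat.card (AbDual.torsPts X n (Over.mk j)) := by
  classical
  haveI := finite_fibre_points j h (1 : Over.mk j ⟶ Y)
  have hmap : ∀ a b : Over.mk j ⟶ X, (a * b) ≫ h = (a ≫ h) * (b ≫ h) := fun a b => MonObj.mul_comp a b h
  let H : (Over.mk j ⟶ X) →* (Over.mk j ⟶ Y) :=
    { toFun := fun a => a ≫ h, map_one' := MonObj.one_comp h, map_mul' := hmap }
  constructor
  · let F : AbDual.torsPts X n (Over.mk j) →* AbDual.torsPts Y n (Over.mk j) :=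
      { toFun := fun a => ⟨H a.1, by show H a.1 ^ n = 1; rw [← map_pow, show a.1 ^ n = 1 from a.2, map_one]⟩
        map_one' := Subtype.ext (map_one H), map_mul' := fun a b => Subtype.ext (map_mul H a.1 b.1) }
    rw [Subgroup.card_eq_card_quotient_mul_card_subgroup F.ker, mul_comm]
    refine Nat.mul_le_mul ?_ ?_
    · exact Nat.card_le_card_of_injective (fun a : F.ker => (⟨a.1.1, congrArg Subtype.val (MonoidHom.mem_ker.mp a.2)⟩ :
        {a : Over.mk j ⟶ X // a ≫ h = 1})) fun a b e => Subtype.ext (Subtype.ext (congrArg Subtype.val e :))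
    · exact Nat.card_le_card_of_injective _ (QuotientGroup.kerLift_injective F)
  · have hl : ∀ y : AbDual.torsPts Y n (Over.mk j), ∃ x, H x = y.1 := fun y => exists_lift_point j h y.1
    choose lift hlift using hl
    let v : AbDual.torsPts Y n (Over.mk j) → {a : Over.mk j ⟶ X // a ≫ h = 1} := fun y => ⟨lift y ^ n, by
      show H (lift y ^ n) = 1
      rw [map_pow, hlift, show y.1 ^ n = 1 from y.2]⟩
    have hb : ∀ w : {a : Over.mk j ⟶ X // a ≫ h = 1}, ∃ x : Over.mk j ⟶ X,
        ∀ y, v y = w → x ^ n = w.1 := fun w => by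
      by_cases hw : ∃ y, v y = w
      · obtain ⟨y, hy⟩ := hw
        exact ⟨lift y, fun _ _ => congrArg Subtype.val hy⟩
      · exact ⟨1, fun y hy => absurd ⟨y, hy⟩ hw⟩
    choose base hbase using hb
    rw [← Nat.card_prod]
    refine Nat.card_le_card_of_injective (fun y => (v y, (⟨lift y * (base (v y))⁻¹, by
      show (lift y * (base (v y))⁻¹) ^ n = 1
      rw [_root_.mul_pow, inv_pow, hbase (v y) y rfl]
      exact mul_inv_cancel (lift y ^ n)⟩ : AbDual.torsPts X n (Over.mk j)))) fun y y' e => ?_
    obtain ⟨e1, e2⟩ := Prod.mk.injEq .. ▸ e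
    have e3 := congrArg Subtype.val e2
    simp only [e1] at e3
    exact Subtype.ext (by rw [← hlift y, ← hlift y', mul_right_cancel e3])

end Groth.Agent.TorsPtsLib
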