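import Groth.Agent.TorsPtsLib.Factor

/-!
Torsion points lift to the Tate module.
-/

set_option autoImplicit false
set_option linter.style.haveILetI false

universe u

open CategoryTheory CategoryTheory.Limits MonoidalCategory CartesianMonoidalCategory MonObj AlgebraicGeometry

namespace Groth.Agent.TorsPtsLib

variable {S : Scheme.{u}} (T : Over S) (l : ℕ) {A : Over S} [GrpObj A] [IsCommMonObj A]

theorem exists_tate_lift (hdiv : ∀ b : T ⟶ A, ∃ a : T ⟶ A, a ^ l = b) (n : ℕ) (x : T ⟶ A) (hx : x ^ l ^ n = 1) :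
    ∃ t : AbDual.TateMod A l T, ((t : ℕ → Additive (T ⟶ A)) n).toMul = x := by
  choose root hroot using hdiv
  let up : ℕ → (T ⟶ A) := fun m => root^[m] x
  have hup : ∀ m, up m ^ l ^ m = x := fun m => by
    induction m with
    | zero => simp [up]
    | succ m ih =>
      show root^[m + 1] x ^ l ^ (m + 1) = x
      rw [Function.iterate_succ_apply', pow_succ', pow_mul, hroot]
      exact ih
  let s : ℕ → (T ⟶ A) := fun m => up (m - n) ^ l ^ (n - m)
  have hs : ∀ m, s (m + 1) ^ l = s m := fun m => by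
    show (up (m + 1 - n) ^ l ^ (n - (m + 1))) ^ l = up (m - n) ^ l ^ (n - m)
    rcases Nat.lt_or_ge m n with h | h
    · rw [show m + 1 - n = 0 by omega, show m - n = 0 by omega, ← pow_mul, ← pow_succ,
        show n - (m + 1) + 1 = n - m by omega]
    · rw [show n - (m + 1) = 0 by omega, show n - m = 0 by omega, pow_zero, pow_one, pow_one,
        show m + 1 - n = (m - n) + 1 by omega]
      show root^[(m - n) + 1] x ^ l = root^[m - n] x
      rw [Function.iterate_succ_apply', hroot]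
  have htors : ∀ m, s m ^ l ^ m = 1 := fun m => by
    show (up (m - n) ^ l ^ (n - m)) ^ l ^ m = 1
    rw [← pow_mul, ← pow_add, show n - m + m = (m - n) + n by omega, pow_add, pow_mul, hup, hx]
  refine ⟨⟨fun m => Additive.ofMul (s m), ⟨fun m => congrArg Additive.ofMul (htors m),
    fun m => congrArg Additive.ofMul (hs m)⟩⟩, ?_⟩
  show up (n - n) ^ l ^ (n - n) = x
  simp [up]

theorem kills_torsion [Fact l.Prime] {B : Over S} [GrpObj B] [IsCommMonObj B]
    (hdiv : ∀ b : T ⟶ A, ∃ a : T ⟶ A, a ^ l = b) (φ : A ⟶ B) [IsMonHom φ] (n : ℕ)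
    (u : AbDual.TateMod A l T →ₗ[ℤ_[l]] AbDual.TateMod B l T)
    (hu : AbDual.tateMapₗ (l := l) (T := T) φ = ((l : ℤ_[l]) ^ n) • u)
    (x : T ⟶ A) (hx : x ^ l ^ n = 1) : x ≫ φ = 1 := by
  obtain ⟨t, rfl⟩ := exists_tate_lift T l hdiv n x hx
  have h := congrArg (fun f => (((f t : AbDual.TateMod B l T) : ℕ → Additive (T ⟶ B)) n).toMul) hu
  refine h.trans ?_
  show ((((l : ℤ_[l]) ^ n) • u t : AbDual.TateMod B l T) : ℕ → Additive (T ⟶ B)) n = 0
  rw [← Nat.cast_pow, Nat.cast_smul_eq_nsmul]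
  exact (u t).torsion n

end Groth.Agent.TorsPtsLib
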