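import Groth.Agent.TorsPtsLib.Divis
import Groth.Agent.SmallFlat.Comps
import Mathlib.AlgebraicGeometry.Fiber

/-!
Points over an extension are the rational points of the base change.
-/

set_option autoImplicit false
set_option linter.style.haveILetI false

universe u

open CategoryTheory CategoryTheory.Limits MonoidalCategory CartesianMonoidalCategory MonObj GrpObj AlgebraicGeometry

noncomputable section

namespace Groth.Agent.TorsPtsLib

variable {S S' : Scheme.{u}} (σ : S' ⟶ S) (X : Over S)

/-- Points over `σ` as sections of the base change. -/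
def toBC (a : Over.mk σ ⟶ X) : 𝟙_ (Over S') ⟶ (Over.pullback σ).obj X :=
  Over.homMk (pullback.lift a.left (𝟙 S') (by rw [Over.w]; exact (Category.id_comp _).symm)) (pullback.lift_snd _ _ _)

/-- Sections of the base change as points over `σ`. -/
def ofBC (b : 𝟙_ (Over S') ⟶ (Over.pullback σ).obj X) : Over.mk σ ⟶ X :=
  Over.homMk (b.left ≫ pullback.fst X.hom σ) (by
    rw [Category.assoc, pullback.condition, ← Category.assoc]
    exact (congrArg (· ≫ σ) (Over.w b)).trans (Category.id_comp _))

theorem toBC_eq (a : Over.mk σ ⟶ X) :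
    toBC σ X a = toBC σ (Over.mk σ) (𝟙 _) ≫ (Over.pullback σ).map a := by
  ext1
  apply pullback.hom_ext
  · simp only [toBC, Over.homMk_left, pullback.lift_fst, Over.comp_left, Category.assoc]
    rw [show ((Over.pullback σ).map a).left ≫ pullback.fst X.hom σ = pullback.fst (Over.mk σ).hom σ ≫ a.left from
      pullback.lift_fst _ _ _, pullback.lift_fst_assoc]
    exact (Category.id_comp _).symm
  · simp only [toBC, Over.homMk_left, pullback.lift_snd, Over.comp_left, Category.assoc]
    rw [show ((Over.pullback σ).map a).left ≫ pullback.snd X.hom σ = pullback.snd (Over.mk σ).hom σ from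
      pullback.lift_snd _ _ _, pullback.lift_snd]

variable [GrpObj X]

/-- The group of points over `σ` is the group of sections of the base change. -/
def bcPtsEquiv :
    letI : GrpObj ((Over.pullback σ).obj X) := Functor.grpObjObj
    (Over.mk σ ⟶ X) ≃* (𝟙_ (Over S') ⟶ (Over.pullback σ).obj X) :=
  letI : GrpObj ((Over.pullback σ).obj X) := Functor.grpObjObj
  { toFun := toBC σ X
    invFun := ofBC σ X
    left_inv := fun a => by ext1; exact pullback.lift_fst _ _ _
    right_inv := fun b => by
      ext1
      apply pullback.hom_ext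
      · exact pullback.lift_fst _ _ _
      · exact (pullback.lift_snd _ _ _).trans (Over.w b).symm
    map_mul' := fun a b => by
      rw [toBC_eq σ X (a * b), toBC_eq σ X a, toBC_eq σ X b, ← MonObj.comp_mul]
      congr 1
      exact _root_.map_mul ((Over.pullback σ).homMonoidHom) a b }

section field

variable {k Ω : Type u} [Field k] [Field Ω] (j : Spec (CommRingCat.of Ω) ⟶ Spec (CommRingCat.of k))
  (A : Over (Spec (CommRingCat.of k))) [GrpObj A] [IsCommMonObj A] [IsProper A.hom] [GeometricallyIntegral A.hom]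

omit [GrpObj A] [IsCommMonObj A] [GeometricallyIntegral A.hom] in
theorem dim_bc {g : ℕ} (hg : topologicalKrullDim ↥A.left = g) :
    topologicalKrullDim ↥(pullback A.hom j) = g := by
  have key : ∀ {R : Type u} [Field R] {Z : Scheme.{u}} (f : Z ⟶ Spec (CommRingCat.of R)),
      topologicalKrullDim ↥(f.fiber (IsLocalRing.closedPoint R)) = topologicalKrullDim ↥Z := fun {R} _ {Z} f => by
    have h : f ⁻¹' {IsLocalRing.closedPoint R} = Set.univ := by
      ext z
      simp only [Set.mem_preimage, Set.mem_univ, iff_true]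
      exact Subsingleton.elim (α := PrimeSpectrum R) _ _
    exact IsHomeomorph.topologicalKrullDim_eq _
      ((f.fiberHomeo _).trans ((Homeomorph.setCongr h).trans (Homeomorph.Set.univ Z))).isHomeomorph
  have h1 := Groth.Agent.SmallFlat.fibreDim_baseChange A.hom j (pullback.snd A.hom j) (pullback.fst A.hom j)
    (IsPullback.of_hasPullback A.hom j) (IsLocalRing.closedPoint Ω)
  rw [show j (IsLocalRing.closedPoint Ω) = IsLocalRing.closedPoint k from Subsingleton.elim (α := PrimeSpectrum k) _ _,
    key, key, hg] at h1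
  exact h1

omit [GrpObj A] [IsCommMonObj A] in
theorem exists_dim : ∃ g : ℕ, topologicalKrullDim ↥A.left = g :=
  haveI : IsIntegral A.left := GeometricallyIntegral.isIntegral_of_subsingleton A.hom
  ⟨_, Groth.Agent.VarDim.topologicalKrullDim_eq_deg_genericPoint A.hom⟩

variable [IsAlgClosed Ω]

/-- Geometric points: torsion, divisibility, Tate module. -/
theorem geom_points {g : ℕ} (hg : topologicalKrullDim ↥A.left = g) :
    (∀ n : ℕ, 0 < n → ∀ b : Over.mk j ⟶ A, ∃ a : Over.mk j ⟶ A, a ^ n = b) ∧
    (∀ n : ℕ, (n : Ω) ≠ 0 → Nat.card (AbDual.torsPts A n (Over.mk j)) = n ^ (2 * g)) ∧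
    (∀ (l : ℕ) [Fact l.Prime], (l : Ω) ≠ 0 →
      Module.Free ℤ_[l] (AbDual.TateMod A l (Over.mk j)) ∧ Module.Finite ℤ_[l] (AbDual.TateMod A l (Over.mk j)) ∧
        Module.finrank ℤ_[l] (AbDual.TateMod A l (Over.mk j)) = 2 * g) := by
  letI : GrpObj ((Over.pullback j).obj A) := Functor.grpObjObj
  haveI : IsProper ((Over.pullback j).obj A).hom := inferInstanceAs (IsProper (pullback.snd A.hom j))
  haveI : GeometricallyIntegral ((Over.pullback j).obj A).hom :=
    inferInstanceAs (GeometricallyIntegral (pullback.snd A.hom j))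
  haveI : IsCommMonObj ((Over.pullback j).obj A) := isCommMonObj_of_isProper_of_geometricallyIntegral _
  have hg' : topologicalKrullDim ↥((Over.pullback j).obj A).left = g := dim_bc j A hg
  have h1 : ∀ n : ℕ, 0 < n → ∀ b : Over.mk j ⟶ A, ∃ a : Over.mk j ⟶ A, a ^ n = b := fun n hn b => by
    obtain ⟨a, ha⟩ := exists_pow_eq ((Over.pullback j).obj A) n hn (bcPtsEquiv j A b)
    exact ⟨(bcPtsEquiv j A).symm a, by rw [← map_pow, ha, MulEquiv.symm_apply_apply]⟩
  have h2 : ∀ n : ℕ, (n : Ω) ≠ 0 → Nat.card (AbDual.torsPts A n (Over.mk j)) = n ^ (2 * g) := fun n hn => by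
    rw [← card_tors Ω _ hg' hn]
    exact Nat.card_congr (Equiv.subtypeEquiv (bcPtsEquiv j A).toEquiv fun a => by
      show a ^ n = 1 ↔ bcPtsEquiv j A a ^ n = 1
      rw [← map_pow, MulEquiv.map_eq_one_iff])
  exact ⟨h1, h2, fun l _ hl => tateMod_free A l (Over.mk j) (2 * g) (h1 l (Fact.out : l.Prime).pos)
    fun n => h2 _ (by rw [Nat.cast_pow]; exact pow_ne_zero n hl)⟩

end field

end Groth.Agent.TorsPtsLib
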