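import Mathlib.GroupTheory.FiniteAbelian.Duality
import Mathlib.GroupTheory.SpecificGroups.Cyclic
import Mathlib.RingTheory.RootsOfUnity.AlgebraicallyClosed
import Mathlib.Analysis.Complex.Polynomial.Basic

/-!
Finite abelian groups killed by `n` with `d ^ r` elements killed by each divisor `d`.
-/

universe u

namespace Groth.Agent.TorsPtsLib

set_option linter.style.haveILetI false in
theorem nonempty_mulEquiv_zmod_pow (n : ℕ) (hn : 0 < n) : ∀ (r : ℕ) (G : Type u) [CommGroup G] [Finite G],
    (∀ x : G, x ^ n = 1) → (∀ d, d ∣ n → Nat.card {x : G // x ^ d = 1} = d ^ r) →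
    Nonempty (G ≃* Multiplicative (Fin r → ZMod n))
  | 0, G, _, _, hG, hc => by
    have h1 : Nat.card G = 1 := by
      rw [← Nat.card_congr (Equiv.subtypeUnivEquiv hG), hc n dvd_rfl, pow_zero]
    have : Subsingleton G := (Nat.card_eq_one_iff_unique.mp h1).1
    exact ⟨{ toFun := fun _ => 1, invFun := fun _ => 1, left_inv := fun _ => Subsingleton.elim _ _
             right_inv := fun _ => Subsingleton.elim _ _, map_mul' := fun _ _ => Subsingleton.elim _ _ }⟩
  | r + 1, G, _, _, hG, hc => by
    classical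
    haveI : NeZero n := ⟨hn.ne'⟩
    obtain ⟨x, hx⟩ := Monoid.exists_orderOf_eq_exponent (G := G) Monoid.ExponentExists.of_finite
    have hxn : orderOf x = n := by
      rw [hx]
      refine Nat.dvd_antisymm (Monoid.exponent_dvd_of_forall_pow_eq_one hG) ?_
      by_contra hne
      have hd : Monoid.exponent G ∣ n := Monoid.exponent_dvd_of_forall_pow_eq_one hG
      have hlt : Monoid.exponent G < n :=
        lt_of_le_of_ne (Nat.le_of_dvd hn hd) fun h => hne (h ▸ dvd_rfl)
      have h1 := hc _ hd
      rw [Nat.card_congr (Equiv.subtypeUnivEquiv Monoid.pow_exponent_eq_one),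
        ← Nat.card_congr (Equiv.subtypeUnivEquiv hG), hc n dvd_rfl] at h1
      exact absurd h1 (Nat.pow_lt_pow_left hlt (Nat.succ_ne_zero r)).ne'
    let C := Subgroup.zpowers x
    have hC : Nat.card C = n := by rw [Nat.card_zpowers, hxn]
    let eC : Multiplicative (ZMod n) ≃* C := zmodMulEquivOfGenerator (g := (⟨x, Subgroup.mem_zpowers x⟩ : C))
      (fun y => by
        obtain ⟨m, hm⟩ := Subgroup.mem_zpowers_iff.mp y.2
        exact Subgroup.mem_zpowers_iff.mpr ⟨m, Subtype.ext hm⟩) hC
    obtain ⟨ζ, hζ⟩ := HasEnoughRootsOfUnity.exists_primitiveRoot ℂ n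
    have : HasEnoughRootsOfUnity ℂ (Monoid.exponent G) :=
      HasEnoughRootsOfUnity.of_dvd (n := n) ℂ (Monoid.exponent_dvd_of_forall_pow_eq_one hG)
    let ζu : rootsOfUnity n ℂ := hζ.toRootsOfUnity
    have hζu : IsPrimitiveRoot ζu n := IsPrimitiveRoot.coe_submonoidClass_iff.mp (IsPrimitiveRoot.coe_units_iff.mp hζ)
    have hgen : ∀ z : rootsOfUnity n ℂ, z ∈ Subgroup.zpowers ζu := by
      intro z
      obtain ⟨i, -, hi⟩ := hζ.eq_pow_of_pow_eq_one (ξ := ((z : ℂˣ) : ℂ)) (by
        rw [← Units.val_pow_eq_pow_val, (mem_rootsOfUnity n _).mp z.2]; simp)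
      exact ⟨i, Subtype.ext (Units.ext (by simpa [ζu] using hi))⟩
    let eU : Multiplicative (ZMod n) ≃* rootsOfUnity n ℂ := zmodMulEquivOfGenerator hgen
      (HasEnoughRootsOfUnity.natCard_rootsOfUnity ℂ n)
    let χ₀ : C →* ℂˣ := (rootsOfUnity n ℂ).subtype.comp (eC.symm.trans eU).toMonoidHom
    obtain ⟨χ, hχ⟩ := MonoidHom.domRestrict_surjective ℂ C χ₀
    have hχC : ∀ c : C, χ c = χ₀ c := fun c => by rw [← hχ]; rfl
    have hχn : ∀ g, χ g ∈ rootsOfUnity n ℂ := fun g => by
      rw [mem_rootsOfUnity, ← map_pow, hG, map_one]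
    let H : Subgroup G := χ.ker
    let π : G → C := fun g => (eC.symm.trans eU).symm ⟨χ g, hχn g⟩
    have hπ : ∀ g, χ (π g : G) = χ g := fun g => by
      rw [hχC]
      show (((eC.symm.trans eU) ((eC.symm.trans eU).symm _) : rootsOfUnity n ℂ) : ℂˣ) = _
      rw [MulEquiv.apply_symm_apply]
    have hinj : ∀ c : C, χ c = 1 → c = 1 := fun c hc' => by
      rw [hχC] at hc'
      apply (eC.symm.trans eU).injective
      rw [map_one]
      exact Subtype.ext hc'
    let m : C × H →* G := MonoidHom.coprod C.subtype H.subtype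
    have hm : Function.Bijective m := by
      constructor
      · rw [injective_iff_map_eq_one]
        rintro ⟨c, h⟩ e
        simp only [m, MonoidHom.coprod_apply, Subgroup.coe_subtype] at e
        have hc1 : c = 1 := hinj c (by
          have := congrArg χ e
          rwa [map_mul, show χ h = 1 from h.2, mul_one, map_one] at this)
        subst hc1
        simp only [OneMemClass.coe_one, one_mul] at e
        exact Prod.ext rfl (Subtype.ext e)
      · intro g
        refine ⟨(π g, ⟨(π g : G)⁻¹ * g, ?_⟩), by simp [m]⟩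
        show χ _ = 1
        rw [map_mul, map_inv, hπ, inv_mul_cancel]
    let e : C × H ≃* G := MulEquiv.ofBijective m hm
    have hH : ∀ d, d ∣ n → Nat.card {h : H // h ^ d = 1} = d ^ r := by
      intro d hd
      have h1 : Nat.card {c : C // c ^ d = 1} = d := by
        have : IsCyclic C := Subgroup.isCyclic_zpowers x
        have h2 := IsCyclic.card_powMonoidHom_ker C d
        rw [hC, Nat.gcd_eq_right hd] at h2
        exact h2
      have h3 : Nat.card {g : G // g ^ d = 1} =
          Nat.card ({c : C // c ^ d = 1} × {h : H // h ^ d = 1}) :=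
        Nat.card_congr (((Equiv.subtypeEquiv e.toEquiv (p := fun z => z ^ d = 1) (q := fun g => g ^ d = 1)
          (fun z => by
            show _ ↔ e z ^ d = 1
            rw [← map_pow, MulEquiv.map_eq_one_iff])).symm.trans
          (Equiv.subtypeEquivRight fun z => by simp [Prod.ext_iff])).trans Equiv.subtypeProdEquivProd)
      rw [hc d hd, Nat.card_prod, h1, pow_succ'] at h3
      exact (Nat.eq_of_mul_eq_mul_left (Nat.pos_of_dvd_of_pos hd hn) h3).symm
    obtain ⟨eH⟩ := nonempty_mulEquiv_zmod_pow n hn r H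
      (fun h => Subtype.ext (by simp [hG])) hH
    exact ⟨e.symm.trans ((eC.symm.prodCongr eH).trans
      { toEquiv := (Equiv.prodCongr Multiplicative.toAdd Multiplicative.toAdd).trans
          ((Fin.consEquiv fun _ : Fin (r + 1) => ZMod n).trans Multiplicative.ofAdd)
        map_mul' := fun a b => by
          apply Multiplicative.toAdd.injective
          funext i
          refine Fin.cases ?_ (fun i => ?_) i <;> simp [Fin.consEquiv] })⟩

end Groth.Agent.TorsPtsLib
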