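import Groth.Agent.AVDegLib.MulN
import Groth.Agent.H23.MulEtale
import Groth.Agent.H23.TorsRed
import Groth.Agent.H23.RigidGamma
import Groth.Prelude.Def_AbDual
import Mathlib.RingTheory.Etale.Field

/-!
The number of rational torsion points of an abelian variety over an algebraically closed field.
-/

set_option autoImplicit false
set_option linter.style.haveILetI false

universe u

open CategoryTheory CategoryTheory.Limits MonoidalCategory CartesianMonoidalCategory MonObj AlgebraicGeometry

namespace Groth.Agent.TorsPtsLib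

/-- A finite étale algebra over an algebraically closed field has as many points as its degree. -/
theorem card_algHom_eq_finrank (k C : Type u) [Field k] [IsAlgClosed k] [CommRing C] [Algebra k C]
    [Module.Finite k C] [Algebra.Etale k C] : Nat.card (C →ₐ[k] k) = Module.finrank k C := by
  classical
  let e := Algebra.FormallyEtale.equivPiOfIsSepClosed k C
  have : IsArtinianRing C := isArtinian_of_tower k inferInstance
  have : Finite (PrimeSpectrum C) := inferInstance
  let := Fintype.ofFinite (PrimeSpectrum C)
  let E : PrimeSpectrum C ≃ ((PrimeSpectrum C → k) →ₐ[k] k) := Equiv.ofBijective (fun p => Pi.evalAlgHom k (fun _ => k) p) ⟨fun p q h => by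
      by_contra hne
      have := AlgHom.congr_fun h (Pi.single p 1)
      simp [Pi.single_eq_same, Ne.symm hne] at this, fun φ => by
      have h1 : ∑ i, φ (Pi.single i 1) = 1 := by
        rw [← map_sum, Finset.univ_sum_single (fun _ => (1 : k))]; exact map_one φ
      obtain ⟨i, hi⟩ : ∃ i, φ (Pi.single i 1) ≠ 0 := by
        by_contra hall
        push Not at hall
        simp [hall] at h1
      refine ⟨i, AlgHom.ext fun f => mul_right_cancel₀ hi ?_⟩
      rw [← map_mul]
      have h2 : f * Pi.single i (1 : k) = f i • Pi.single i (1 : k) := by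
        funext j; by_cases hj : j = i <;> simp [hj]
      rw [h2, map_smul, smul_eq_mul]
      rfl⟩
  rw [Nat.card_congr ((e.arrowCongr AlgEquiv.refl).trans E.symm), e.toLinearEquiv.finrank_eq, Module.finrank_pi,
    Nat.card_eq_fintype_card]

variable {k : Type u} [Field k] [IsAlgClosed k] (A : Over (Spec (CommRingCat.of k))) [GrpObj A] [IsProper A.hom]
  [Smooth A.hom] [GeometricallyConnected A.hom]

omit [IsAlgClosed k] in
theorem eq_of_ne_zero {d : ℕ} (hd : IsUnit (d : k)) : IsUnit (((d : ℤ)) : Γ(Spec (CommRingCat.of k), ⊤)) := by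
  have := hd.map (Scheme.ΓSpecIso (CommRingCat.of k)).inv.hom
  rw [map_natCast] at this
  simpa using this

theorem card_torsPts [GeometricallyIntegral A.hom] [IsCommMonObj A] {g : ℕ}
    (hg : topologicalKrullDim ↥A.left = g) {d : ℕ} (hd : IsUnit (d : k)) :
    Nat.card (AbDual.torsPts A d (𝟙_ (Over (Spec (CommRingCat.of k))))) = d ^ (2 * g) := by
  have : GeometricallyReduced A.hom := Groth.Agent.H23.RigidGamma.geometricallyReduced_of_smooth A.hom
  have hd0 : (d : ℤ) ≠ 0 := by
    intro h
    rw [Int.natCast_eq_zero.mp h, Nat.cast_zero] at hd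
    exact not_isUnit_zero hd
  have hunit := eq_of_ne_zero hd
  obtain ⟨hf, hfl, -⟩ := AVDegLib.zpow_props (A := A) (d : ℤ) hd0
  have he := Groth.Agent.H23.MulEtale.etale_zpow (X := A) (d : ℤ) hunit
  have hr := AVDegLib.finrank_zpow (A := A) hg (d : ℤ) hd0
  simp only [zpow_natCast, Int.natAbs_natCast] at hf hfl he hr
  let T : Over (Spec (CommRingCat.of k)) := 𝟙_ _
  let q := Limits.pullback.fst (η[A]).left (𝟙 A ^ d : A ⟶ A).left
  have hqe : Etale q := MorphismProperty.of_isPullback (P := @Etale) (IsPullback.of_hasPullback (η[A]).left (𝟙 A ^ d : A ⟶ A).left).flip he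
  have hqf : IsFinite q := MorphismProperty.of_isPullback (P := @IsFinite) (IsPullback.of_hasPullback (η[A]).left (𝟙 A ^ d : A ⟶ A).left).flip hf
  have : IsAffine (𝟙_ (Over (Spec (CommRingCat.of k)))).left := inferInstanceAs (IsAffine (Spec (CommRingCat.of k)))
  have : IsAffine (Groth.Agent.H23.TorsRed.tors A d) := isAffine_of_isAffineHom q
  let N := Groth.Agent.H23.TorsRed.tors A d
  let C := Γ(N, ⊤)
  obtain ⟨φ, hφ⟩ := Spec.map_surjective (R := CommRingCat.of k) (S := CommRingCat.of C) (N.isoSpec.inv ≫ q)
  let : Algebra k C := φ.hom.toAlgebra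
  have h1 : IsFinite (Spec.map φ) := by rw [hφ]; infer_instance
  have h2 : Etale (Spec.map φ) := by rw [hφ]; infer_instance
  have : Module.Finite k C := by rw [IsFinite.SpecMap_iff] at h1; exact h1
  have : Algebra.Etale k C := by rw [HasRingHomProperty.Spec_iff (P := @Etale)] at h2; exact h2
  have hrank : Module.finrank k C = d ^ (2 * g) := by
    let x0 : PrimeSpectrum k := ⊥
    have e1 := Scheme.Hom.finrank_SpecMap_algebraMap k C x0
    have e2 : CommRingCat.ofHom (algebraMap k C) = φ := rfl
    rw [e2, hφ] at e1
    have hfq : Flat q := MorphismProperty.of_isPullback (P := @Flat) (IsPullback.of_hasPullback (η[A]).left (𝟙 A ^ d : A ⟶ A).left).flip hfl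
    rw [Scheme.Hom.finrank_comp_left_of_isIso] at e1
    have e3 : Scheme.Hom.finrank q x0 = d ^ (2 * g) := by
      rw [show q = Limits.pullback.fst (η[A]).left (𝟙 A ^ d : A ⟶ A).left from rfl]
      exact (Scheme.Hom.finrank_pullback_fst _ _ _).trans (hr _)
    rw [← e3]
    refine Eq.trans ?_ e1.symm
    rw [Module.rankAtStalk_eq_finrank_of_free]
    rfl
  rw [← hrank, ← card_algHom_eq_finrank k C]
  refine Nat.card_congr ((Groth.Agent.H23.TorsRed.ptsEquiv A d T).trans
    { toFun := fun t =>
        { (Spec.preimage (t.1 ≫ N.isoSpec.hom)).hom with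
          commutes' := fun r => by
            have h : φ ≫ Spec.preimage (t.1 ≫ N.isoSpec.hom) = 𝟙 (CommRingCat.of k) := by
              apply Spec.map_injective
              rw [Spec.map_comp, Spec.map_preimage, hφ, Spec.map_id, Category.assoc, Iso.hom_inv_id_assoc]
              exact t.2
            exact congrArg (fun ψ => ψ.hom r) h }
      invFun := fun χ => ⟨Spec.map (CommRingCat.ofHom χ.toRingHom) ≫ N.isoSpec.inv, by
        rw [Category.assoc, ← hφ, ← Spec.map_comp]
        refine Eq.trans (congrArg Spec.map (CommRingCat.hom_ext (RingHom.ext fun r => χ.commutes r) :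
          φ ≫ CommRingCat.ofHom χ.toRingHom = 𝟙 (CommRingCat.of k))) ?_
        exact Spec.map_id _⟩
      left_inv := fun t => by
        apply Subtype.ext
        show Spec.map (Spec.preimage (t.1 ≫ N.isoSpec.hom)) ≫ N.isoSpec.inv = t.1
        rw [Spec.map_preimage, Category.assoc, Iso.hom_inv_id, Category.comp_id]
      right_inv := fun χ => by
        refine AlgHom.ext fun c => ?_
        show (Spec.preimage ((Spec.map (CommRingCat.ofHom χ.toRingHom) ≫ N.isoSpec.inv) ≫ N.isoSpec.hom)).hom c = χ c
        rw [Category.assoc, Iso.inv_hom_id, Category.comp_id, Spec.preimage_map]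
        rfl })

end Groth.Agent.TorsPtsLib
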