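import Groth.Agent.TorsPtsLib.Group
import Groth.Agent.TorsPtsLib.Count
import Groth.Agent.H23.MaxAbelian
import Groth.Agent.S1843
import Mathlib.AlgebraicGeometry.AlgClosed.Basic
import Mathlib.GroupTheory.PGroup

/-!
The structure of the groups of rational torsion points of an abelian variety.
-/

set_option autoImplicit false
set_option linter.style.haveILetI false

universe u

open CategoryTheory CategoryTheory.Limits MonoidalCategory CartesianMonoidalCategory MonObj AlgebraicGeometry

namespace Groth.Agent.TorsPtsLib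

variable {k : Type u} [Field k] (A : Over (Spec (CommRingCat.of k))) [GrpObj A] [IsProper A.hom]
  [Smooth A.hom] [GeometricallyConnected A.hom]

/-- A smooth proper connected group over a field is geometrically integral. -/
theorem geometricallyIntegral : GeometricallyIntegral A.hom := by
  haveI : GeometricallyReduced A.hom := Groth.Agent.H23.RigidGamma.geometricallyReduced_of_smooth A.hom
  haveI : ConnectedSpace A.left :=
    haveI : ConnectedSpace ↥(pullback A.hom (𝟙 (Spec (CommRingCat.of k)))) :=
      GeometricallyConnected.geometrically_connectedSpace (f := A.hom) _ _ _ (.of_hasPullback _ _)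
    (Scheme.Hom.homeomorph (pullback.fst A.hom (𝟙 _))).surjective.connectedSpace
      (Scheme.Hom.homeomorph (pullback.fst A.hom (𝟙 _))).continuous
  exact Groth.Agent.H23.MaxAbelian.geometricallyIntegral_of_connected A

variable [IsAlgClosed k] [IsCommMonObj A]

local notation "pt₀" => (𝟙_ (Over (Spec (CommRingCat.of k))))

theorem torsPts_structure {g : ℕ} (hg : topologicalKrullDim ↥A.left = g) {n : ℕ} (hn : 0 < n)
    (hnk : IsUnit (n : k)) :
    Nonempty (AbDual.torsPts A n pt₀ ≃* Multiplicative (Fin (2 * g) → ZMod n)) := by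
  haveI := geometricallyIntegral A
  have hc : ∀ d, d ∣ n → Nat.card (AbDual.torsPts A d pt₀) = d ^ (2 * g) := fun d hd => by
    obtain ⟨e, rfl⟩ := hd
    rw [Nat.cast_mul] at hnk
    exact card_torsPts A hg (isUnit_of_mul_isUnit_left hnk)
  have : Finite (AbDual.torsPts A n pt₀) := Nat.finite_of_card_ne_zero (by
    rw [hc n dvd_rfl]; exact (pow_pos hn _).ne')
  refine nonempty_mulEquiv_zmod_pow n hn (2 * g) _ (fun x => Subtype.ext x.2) fun d hd => ?_
  rw [← hc d hd]
  exact Nat.card_congr
    { toFun := fun x => ⟨x.1.1, congrArg Subtype.val x.2⟩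
      invFun := fun a => ⟨⟨a.1, by
        obtain ⟨e, rfl⟩ := hd
        show a.1 ^ (d * e) = 1
        rw [pow_mul, show a.1 ^ d = 1 from a.2, one_pow]⟩, Subtype.ext a.2⟩
      left_inv := fun x => rfl
      right_inv := fun a => rfl }

section prank

variable (p : ℕ) [Fact p.Prime] [CharP k p]

omit [IsCommMonObj A] [Smooth A.hom] [GeometricallyConnected A.hom] [Fact p.Prime] [CharP k p] in
theorem exists_pow_eq [GeometricallyIntegral A.hom] (hp : 1 ≤ p) (b : pt₀ ⟶ A) : ∃ a : pt₀ ⟶ A, a ^ p = b := by
  let φ : A ⟶ A := 𝟙 A ^ p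
  haveI : Surjective φ.left := AVMulN.surjective_pow (A := A) p hp
  haveI : IsFinite φ.left := AVMulN.isFinite_pow (A := A) p hp
  let Q := pullback b.left φ.left
  let q : Q ⟶ Spec (CommRingCat.of k) := pullback.fst b.left φ.left
  haveI : IsFinite q := MorphismProperty.of_isPullback (P := @IsFinite) (IsPullback.of_hasPullback b.left φ.left).flip inferInstance
  haveI : Surjective q := MorphismProperty.of_isPullback (P := @Surjective) (IsPullback.of_hasPullback b.left φ.left).flip inferInstance
  haveI : JacobsonSpace Q := LocallyOfFiniteType.jacobsonSpace q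
  obtain ⟨x, -⟩ := q.surjective (IsLocalRing.closedPoint k)
  obtain ⟨y, -, hy⟩ := nonempty_inter_closedPoints (X := Q) ⟨x, Set.mem_univ x⟩
    isOpen_univ.isLocallyClosed
  let t := pointOfClosedPoint q y hy
  have ht : t ≫ q = 𝟙 _ := pointOfClosedPoint_comp q y hy
  have hlift : (t ≫ pullback.snd b.left φ.left) ≫ φ.left = b.left := by
    rw [Category.assoc, ← pullback.condition, ← Category.assoc]
    exact (congrArg (· ≫ b.left) ht).trans (Category.id_comp _)
  refine ⟨Over.homMk (t ≫ pullback.snd b.left φ.left) ?_, ?_⟩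
  · have := congrArg (· ≫ A.hom) hlift
    simp only [Category.assoc] at this ⊢
    rw [show φ.left ≫ A.hom = A.hom from Over.w φ] at this
    exact this.trans (Over.w b)
  · rw [← Category.comp_id (Over.homMk _ _), ← MonObj.comp_pow]
    ext1
    exact hlift

theorem exists_pRank {g : ℕ} (hg : topologicalKrullDim ↥A.left = g) :
    ∃ i : ℕ, i ≤ g ∧ ∀ m : ℕ,
      Nonempty (AbDual.torsPts A (p ^ m) pt₀ ≃* Multiplicative (Fin i → ZMod (p ^ m))) := by
  haveI := geometricallyIntegral A
  have hp : p.Prime := Fact.out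
  let G1 := AbDual.torsPts A p pt₀
  let S := {a : A.left | (𝟙 A ^ p).left a = η[A].left (IsLocalRing.closedPoint k)}
  have hS : S.encard ≤ (p ^ g : ℕ) := Groth.Agent.S1843.result k p A g hg
  have hSf : S.Finite := Set.finite_of_encard_le_coe hS
  let ev : G1 → S := fun a => ⟨a.1.left (IsLocalRing.closedPoint k), by
    show (𝟙 A ^ p).left (a.1.left _) = _
    have h : a.1 ≫ (𝟙 A ^ p) = (1 : pt₀ ⟶ A) := by
      rw [MonObj.comp_pow, Category.comp_id]; exact a.2
    rw [Hom.one_def, show toUnit pt₀ = 𝟙 _ from toUnit_unique _ _, Category.id_comp] at h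
    exact congrArg (fun z : pt₀ ⟶ A => z.left (IsLocalRing.closedPoint k)) h⟩
  have hev : Function.Injective ev := fun a b h => by
    refine Subtype.ext (Over.OverMorphism.ext ?_)
    exact ext_of_apply_closedPoint_eq A.hom (Over.w a.1) (Over.w b.1) (congrArg Subtype.val h)
  haveI : Finite S := hSf.to_subtype
  haveI : Finite G1 := Finite.of_injective ev hev
  have hG1le : Nat.card G1 ≤ p ^ g := by
    refine le_trans (Nat.card_le_card_of_injective ev hev) ?_
    rw [Nat.card_coe_set_eq]
    have := hSf.cast_ncard_eq ▸ hS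
    exact_mod_cast this
  obtain ⟨i, hi⟩ := IsPGroup.iff_card.mp (show IsPGroup p G1 from fun a => ⟨1, by rw [pow_one]; exact Subtype.ext a.2⟩)
  have hig : i ≤ g := (Nat.pow_le_pow_iff_right hp.one_lt).mp (hi ▸ hG1le)
  have hcard : ∀ j, Nat.card (AbDual.torsPts A (p ^ j) pt₀) = (p ^ j) ^ i := by
    intro j
    induction j with
    | zero =>
      rw [pow_zero, one_pow, Nat.card_eq_one_iff_unique]
      refine ⟨⟨fun a b => Subtype.ext ?_⟩, ⟨1⟩⟩
      have ha : a.1 ^ 1 = 1 := a.2
      have hb : b.1 ^ 1 = 1 := b.2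
      rw [pow_one] at ha hb
      rw [ha, hb]
    | succ j ih =>
      let f : AbDual.torsPts A (p ^ (j + 1)) pt₀ →* AbDual.torsPts A (p ^ j) pt₀ :=
        { toFun := fun a => ⟨a.1 ^ p, by
            show (a.1 ^ p) ^ p ^ j = 1
            rw [← pow_mul, mul_comm, ← pow_succ]; exact a.2⟩
          map_one' := Subtype.ext (one_pow p)
          map_mul' := fun a b => Subtype.ext (_root_.mul_pow a.1 b.1 p) }
      have hf : Function.Surjective f := fun b => by
        obtain ⟨a, ha⟩ := exists_pow_eq A p hp.one_le b.1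
        refine ⟨⟨a, ?_⟩, Subtype.ext ha⟩
        show a ^ p ^ (j + 1) = 1
        rw [pow_succ, mul_comm, pow_mul, ha]; exact b.2
      have hker : f.ker ≃ G1 :=
        { toFun := fun a => ⟨a.1.1, congrArg Subtype.val (MonoidHom.mem_ker.mp a.2)⟩
          invFun := fun a => ⟨⟨a.1, by
            show a.1 ^ p ^ (j + 1) = 1
            rw [pow_succ, mul_comm, pow_mul, show a.1 ^ p = 1 from a.2, one_pow]⟩,
            MonoidHom.mem_ker.mpr (Subtype.ext a.2)⟩
          left_inv := fun a => rfl
          right_inv := fun a => rfl }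
      rw [Subgroup.card_eq_card_quotient_mul_card_subgroup f.ker,
        Nat.card_congr (QuotientGroup.quotientKerEquivOfSurjective f hf).toEquiv, ih, Nat.card_congr hker, hi,
        pow_succ p j, _root_.mul_pow]
  refine ⟨i, hig, fun m => ?_⟩
  have : Finite (AbDual.torsPts A (p ^ m) pt₀) := Nat.finite_of_card_ne_zero (by
    rw [hcard m]; exact (pow_pos (pow_pos hp.pos m) _).ne')
  refine nonempty_mulEquiv_zmod_pow (p ^ m) (pow_pos hp.pos m) i _ (fun x => Subtype.ext x.2) fun d hd => ?_
  obtain ⟨j, hj, rfl⟩ := (Nat.dvd_prime_pow hp).mp hd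
  rw [← hcard j]
  exact Nat.card_congr
    { toFun := fun x => ⟨x.1.1, congrArg Subtype.val x.2⟩
      invFun := fun a => ⟨⟨a.1, by
        obtain ⟨e, he⟩ := hd
        show a.1 ^ p ^ m = 1
        rw [he, pow_mul, show a.1 ^ p ^ j = 1 from a.2, one_pow]⟩, Subtype.ext a.2⟩
      left_inv := fun x => rfl
      right_inv := fun a => rfl }

end prank

end Groth.Agent.TorsPtsLib
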