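import Groth.Agent.TorsPtsLib.Group
import Groth.Prelude.Def_AbDual
import Mathlib.NumberTheory.Padics.RingHoms
import Mathlib.LinearAlgebra.Dimension.Constructions

/-!
The Tate module is free when the torsion has the expected size and the group of points is divisible.
-/

set_option autoImplicit false
set_option linter.style.haveILetI false

universe u

open CategoryTheory CategoryTheory.Limits MonoidalCategory CartesianMonoidalCategory MonObj AlgebraicGeometry

namespace Groth.Agent.TorsPtsLib

variable {S : Scheme.{u}} (A : Over S) [GrpObj A] [IsCommMonObj A] (l : ℕ) [Fact l.Prime] (T : Over S)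

/-- An `l`-adic integer with prescribed compatible residues. -/
theorem exists_padicInt (c : ℕ → ℕ) (hc : ∀ n, c (n + 1) ≡ c n [MOD l ^ n]) :
    ∃ a : ℤ_[l], ∀ n, a.appr n ≡ c n [MOD l ^ n] := by
  have key : ∀ {m n : ℕ}, m ≤ n → c n ≡ c m [MOD l ^ m] := by
    intro m n h
    induction n, h using Nat.le_induction with
    | base => rfl
    | succ n h ih => exact ((hc n).of_dvd (pow_dvd_pow l h)).trans ih
  obtain ⟨a, ha⟩ := IsPrecomplete.prec' (I := IsLocalRing.maximalIdeal ℤ_[l]) (M := ℤ_[l])
    (fun n => (c n : ℤ_[l])) fun {m n} h => by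
      rw [SModEq.sub_mem, smul_eq_mul, Ideal.mul_top, PadicInt.maximalIdeal_eq_span_p, Ideal.span_singleton_pow,
        ← PadicInt.ker_toZModPow, RingHom.mem_ker, map_sub, map_natCast, map_natCast, sub_eq_zero]
      exact (ZMod.natCast_eq_natCast_iff _ _ _).mpr (key h).symm
  refine ⟨a, fun n => ?_⟩
  have := ha n
  rw [SModEq.sub_mem, smul_eq_mul, Ideal.mul_top, PadicInt.maximalIdeal_eq_span_p, Ideal.span_singleton_pow,
    ← PadicInt.ker_toZModPow, RingHom.mem_ker, map_sub, map_natCast, sub_eq_zero] at this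
  rw [← ZMod.natCast_eq_natCast_iff, ← AbDual.toZModPow_eq_appr]
  exact this.symm

/-- The Tate module is free of the expected rank. -/
theorem tateMod_free (r : ℕ) (hdiv : ∀ b : T ⟶ A, ∃ a : T ⟶ A, a ^ l = b)
    (hcard : ∀ n, Nat.card (AbDual.torsPts A (l ^ n) T) = (l ^ n) ^ r) :
    Module.Free ℤ_[l] (AbDual.TateMod A l T) ∧ Module.Finite ℤ_[l] (AbDual.TateMod A l T) ∧
      Module.finrank ℤ_[l] (AbDual.TateMod A l T) = r := by
  classical
  have hl : 1 < l := (Fact.out : l.Prime).one_lt
  haveI : NeZero l := ⟨(by omega)⟩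
  have hfin : ∀ n, Finite (AbDual.torsPts A (l ^ n) T) := fun n =>
    Nat.finite_of_card_ne_zero (by rw [hcard]; exact (pow_pos (pow_pos (by omega) n) _).ne')
  have hcard1 : Nat.card (AbDual.torsPts A l T) = l ^ r := by
    have h1 := hcard 1
    rw [pow_one] at h1
    exact h1
  haveI : Finite (AbDual.torsPts A l T) := Nat.finite_of_card_ne_zero (by rw [hcard1]; exact (pow_pos (by omega) _).ne')
  obtain ⟨e⟩ := nonempty_mulEquiv_zmod_pow l (by omega) r (AbDual.torsPts A l T) (fun x => Subtype.ext x.2) (by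
    intro d hd
    rcases (Nat.dvd_prime (Fact.out : l.Prime)).mp hd with rfl | rfl
    · rw [one_pow, Nat.card_eq_one_iff_unique]
      exact ⟨⟨fun a b => Subtype.ext ((pow_one a.1).symm.trans (a.2.trans (b.2.symm.trans (pow_one b.1))))⟩,
        ⟨⟨1, pow_one _⟩⟩⟩
    · rw [Nat.card_congr (Equiv.subtypeUnivEquiv fun x => Subtype.ext x.2), hcard1])
  -- compatible lifts of the generators
  choose root hroot using hdiv
  let sq : Fin r → ℕ → (T ⟶ A) := fun i n =>
    Nat.rec 1 (fun n prev => if n = 0 then (e.symm (Multiplicative.ofAdd (Pi.single i 1))).1 else root prev) n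
  have sq0 : ∀ i, sq i 0 = 1 := fun i => rfl
  have sq1 : ∀ i, sq i 1 = (e.symm (Multiplicative.ofAdd (Pi.single i 1))).1 := fun i => rfl
  have sq_succ : ∀ i n, sq i (n + 1) ^ l = sq i n := by
    intro i n
    cases n with
    | zero => show sq i 1 ^ l = sq i 0; rw [sq1, sq0]; exact (e.symm _).2
    | succ n =>
      show (if n + 1 = 0 then _ else root (sq i (n + 1))) ^ l = sq i (n + 1)
      rw [if_neg (Nat.succ_ne_zero n)]
      exact hroot _
  have sq_tors : ∀ i n, sq i n ^ l ^ n = 1 := by
    intro i n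
    induction n with
    | zero => rw [sq0, one_pow]
    | succ n ih => rw [pow_succ, mul_comm, pow_mul, sq_succ, ih]
  let b : Fin r → AbDual.TateMod A l T := fun i => ⟨fun n => Additive.ofMul (sq i n),
    ⟨fun n => congrArg Additive.ofMul (sq_tors i n), fun n => congrArg Additive.ofMul (sq_succ i n)⟩⟩
  -- the map at each level
  let ψ : ∀ n, (Fin r → ZMod (l ^ n)) → AbDual.torsPts A (l ^ n) T := fun n c =>
    ⟨∏ i, sq i n ^ (c i).val, by
      show (∏ i, sq i n ^ (c i).val) ^ l ^ n = 1
      rw [← Finset.prod_pow]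
      exact Finset.prod_eq_one fun i _ => by rw [← pow_mul, mul_comm, pow_mul, sq_tors, one_pow]⟩
  have hpow : ∀ i n (a b : ℕ), a ≡ b [MOD l ^ n] → sq i n ^ a = sq i n ^ b := fun i n a b h => by
    rw [← pow_mod_orderOf, ← pow_mod_orderOf (n := b)]
    exact congrArg (sq i n ^ ·) (h.of_dvd (orderOf_dvd_of_pow_eq_one (sq_tors i n)))
  have hψ : ∀ n (c : Fin r → ℕ), (ψ n fun i => (c i : ZMod (l ^ n))).1 = ∏ i, sq i n ^ c i := fun n c => by
    show (∏ i, sq i n ^ ((c i : ZMod (l ^ n))).val) = _
    exact Finset.prod_congr rfl fun i _ => hpow i n ((c i : ZMod (l ^ n)).val) (c i) (by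
      haveI : NeZero (l ^ n) := ⟨(pow_pos (by omega) n).ne'⟩
      rw [ZMod.val_natCast]; exact Nat.mod_modEq _ _)
  have hgen1 : ∀ y : T ⟶ A, y ^ l = 1 → ∃ c : Fin r → ℕ, ∏ i, sq i 1 ^ c i = y := by
    intro y hy
    refine ⟨fun i => ((e ⟨y, hy⟩).toAdd i).val, ?_⟩
    have h2 : (⟨y, hy⟩ : AbDual.torsPts A l T) =
        ∏ i, (e.symm (Multiplicative.ofAdd (Pi.single i (1 : ZMod l)))) ^ ((e ⟨y, hy⟩).toAdd i).val := by
      apply e.injective
      apply Multiplicative.toAdd.injective
      rw [map_prod, toAdd_prod]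
      simp only [map_pow, MulEquiv.apply_symm_apply, toAdd_pow, toAdd_ofAdd]
      funext j
      rw [Finset.sum_apply, Finset.sum_eq_single j (fun i _ hi => by simp [Ne.symm hi]) (by simp)]
      simp
    have h3 := congrArg Subtype.val h2
    simp only [SubmonoidClass.coe_finsetProd, SubmonoidClass.coe_pow] at h3
    exact h3.symm
  have hsurj : ∀ n, ∀ y : T ⟶ A, y ^ l ^ n = 1 → ∃ c : Fin r → ℕ, ∏ i, sq i n ^ c i = y := by
    intro n
    induction n with
    | zero => intro y hy; exact ⟨0, by simp at hy ⊢; exact hy.symm⟩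
    | succ n ih =>
      intro y hy
      obtain ⟨c, hc⟩ := hgen1 (y ^ l ^ n) (by rw [← pow_mul, ← pow_succ]; exact hy)
      have hdown : ∀ i, sq i (n + 1) ^ l ^ n = sq i 1 := by
        intro i
        clear ih hy hc y
        induction n with
        | zero => rw [pow_zero, pow_one]; try rfl
        | succ n ihn => rw [pow_succ', pow_mul, sq_succ, ihn]
      obtain ⟨d, hd⟩ := ih (y / ∏ i, sq i (n + 1) ^ c i) (by
        rw [div_pow, ← Finset.prod_pow, div_eq_one, ← hc]
        exact Finset.prod_congr rfl fun i _ => by rw [← pow_mul, mul_comm, pow_mul, hdown])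
      refine ⟨fun i => c i + l * d i, ?_⟩
      rw [eq_div_iff_mul_eq'] at hd
      rw [← hd, ← Finset.prod_mul_distrib]
      exact Finset.prod_congr rfl fun i _ => by rw [pow_add, pow_mul, sq_succ, mul_comm]
  have hψb : ∀ n, Function.Bijective (ψ n) := by
    intro n
    haveI := hfin n
    haveI : NeZero (l ^ n) := ⟨(pow_pos (by omega) n).ne'⟩
    refine (Nat.bijective_iff_surjective_and_card _).mpr ⟨fun y => ?_, ?_⟩
    · obtain ⟨c, hc⟩ := hsurj n y.1 y.2
      exact ⟨fun i => (c i : ZMod (l ^ n)), Subtype.ext ((hψ n c).trans hc)⟩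
    · rw [hcard, Nat.card_eq_fintype_card, Fintype.card_pi]
      simp [ZMod.card]
  have hcomp : ∀ (a : Fin r → ℤ_[l]) n, (((∑ i, a i • b i : AbDual.TateMod A l T) : ℕ → Additive (T ⟶ A)) n).toMul =
      ∏ i, sq i n ^ (a i).appr n := by
    intro a n
    show (AbDual.TateMod.component A l T n (∑ i, a i • b i)).toMul = _
    rw [map_sum, toMul_sum]
    exact Finset.prod_congr rfl fun i _ => rfl
  have hli : LinearIndependent ℤ_[l] b := by
    rw [Fintype.linearIndependent_iff]
    intro a ha i
    refine PadicInt.ext_of_toZModPow.mp fun n => ?_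
    rw [map_zero, AbDual.toZModPow_eq_appr]
    have h1 : (ψ n fun i => ((a i).appr n : ZMod (l ^ n))) = ψ n fun i => ((0 : ℕ) : ZMod (l ^ n)) := by
      refine Subtype.ext ?_
      rw [hψ, hψ, ← hcomp, ha]
      simp
    simpa using congrFun ((hψb n).1 h1) i
  have hspan : ⊤ ≤ Submodule.span ℤ_[l] (Set.range b) := by
    intro x _
    choose c hc using fun n => hsurj n ((x : ℕ → Additive (T ⟶ A)) n).toMul (x.torsion n)
    have hcc : ∀ i n, c (n + 1) i ≡ c n i [MOD l ^ n] := by
      intro i n
      have h2 : (∏ j, sq j n ^ c (n + 1) j) = ∏ j, sq j n ^ c n j := by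
        rw [hc n]
        have h3 := congrArg (fun z => z ^ l) (hc (n + 1))
        simp only [← Finset.prod_pow] at h3
        rw [show ((x : ℕ → Additive (T ⟶ A)) (n + 1)).toMul ^ l = ((x : ℕ → Additive (T ⟶ A)) n).toMul from
          congrArg Additive.toMul (x.compat n)] at h3
        rw [← h3]
        exact Finset.prod_congr rfl fun j _ => by rw [← pow_mul, mul_comm, pow_mul, sq_succ]
      rw [← hψ, ← hψ] at h2
      exact (ZMod.natCast_eq_natCast_iff _ _ _).mp (congrFun ((hψb n).1 (Subtype.ext h2)) i)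
    choose a ha using fun i => exists_padicInt l (fun n => c n i) (hcc i)
    have hx : x = ∑ i, a i • b i := AbDual.TateMod.ext fun n => Additive.toMul.injective (by
      rw [hcomp, ← hc n]
      exact Finset.prod_congr rfl fun i _ => (hpow i n _ _ (ha i n)).symm)
    rw [hx]
    exact Submodule.sum_mem _ fun i _ => Submodule.smul_mem _ _ (Submodule.subset_span ⟨i, rfl⟩)
  let B := Module.Basis.mk hli hspan
  exact ⟨Module.Free.of_basis B, Module.Finite.of_basis B, by
    rw [Module.finrank_eq_card_basis B, Fintype.card_fin]⟩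

end Groth.Agent.TorsPtsLib
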