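import Groth.Agent.TorsPtsLib.Main
import Groth.Agent.S7795
import Groth.Agent.TorsPtsLib.TateFree
import Mathlib.AlgebraicGeometry.Geometrically.Connected
import Mathlib.Algebra.CharP.Algebra

/-!
Divisibility of the group of points and the number of torsion points.
-/

set_option autoImplicit false
set_option linter.style.haveILetI false

universe u

open CategoryTheory CategoryTheory.Limits MonoidalCategory CartesianMonoidalCategory MonObj AlgebraicGeometry

namespace Groth.Agent.TorsPtsLib

section mult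

variable {S : Scheme.{u}} (A : Over S) [GrpObj A] [IsCommMonObj A] (T : Over S)

theorem card_tors_mul (a b : ℕ) (hdiv : ∀ y : T ⟶ A, ∃ x : T ⟶ A, x ^ a = y) :
    Nat.card (AbDual.torsPts A (a * b) T) = Nat.card (AbDual.torsPts A a T) * Nat.card (AbDual.torsPts A b T) := by
  let f : AbDual.torsPts A (a * b) T →* AbDual.torsPts A b T :=
    { toFun := fun x => ⟨x.1 ^ a, by
        show (x.1 ^ a) ^ b = 1
        rw [← pow_mul]; exact x.2⟩
      map_one' := Subtype.ext (one_pow a)
      map_mul' := fun x y => Subtype.ext (_root_.mul_pow x.1 y.1 a) }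
  have hf : Function.Surjective f := fun y => by
    obtain ⟨x, hx⟩ := hdiv y.1
    refine ⟨⟨x, ?_⟩, Subtype.ext hx⟩
    show x ^ (a * b) = 1
    rw [pow_mul, hx]; exact y.2
  have hker : f.ker ≃ AbDual.torsPts A a T :=
    { toFun := fun x => ⟨x.1.1, congrArg Subtype.val (MonoidHom.mem_ker.mp x.2)⟩
      invFun := fun x => ⟨⟨x.1, by
        show x.1 ^ (a * b) = 1
        rw [pow_mul, show x.1 ^ a = 1 from x.2, one_pow]⟩, MonoidHom.mem_ker.mpr (Subtype.ext x.2)⟩
      left_inv := fun x => rfl
      right_inv := fun x => rfl }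
  rw [Subgroup.card_eq_card_quotient_mul_card_subgroup f.ker,
    Nat.card_congr (QuotientGroup.quotientKerEquivOfSurjective f hf).toEquiv, Nat.card_congr hker, mul_comm]

theorem card_tors_one : Nat.card (AbDual.torsPts A 1 T) = 1 := by
  rw [Nat.card_eq_one_iff_unique]
  exact ⟨⟨fun a b => Subtype.ext ((pow_one a.1).symm.trans (a.2.trans (b.2.symm.trans (pow_one b.1))))⟩, ⟨1⟩⟩

end mult

theorem geometricallyConnected {X Y : Scheme.{u}} (f : X ⟶ Y) [GeometricallyIntegral f] : GeometricallyConnected f := by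
  refine ⟨fun K _ y Z fst snd h => ?_⟩
  haveI := GeometricallyIntegral.geometrically_isIntegral (f := f) y fst snd h
  infer_instance

variable (k : Type u) [Field k] [IsAlgClosed k] (A : Over (Spec (CommRingCat.of k))) [GrpObj A] [IsCommMonObj A]
  [IsProper A.hom] [GeometricallyIntegral A.hom]

local notation "pt₀" => (𝟙_ (Over (Spec (CommRingCat.of k))))

theorem card_tors {g : ℕ} (hg : topologicalKrullDim ↥A.left = g) {n : ℕ} (hn : (n : k) ≠ 0) :
    Nat.card (AbDual.torsPts A n pt₀) = n ^ (2 * g) := by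
  haveI : Smooth A.hom := Groth.Agent.S7795.result A
  haveI : GeometricallyConnected A.hom := geometricallyConnected A.hom
  exact card_torsPts A hg (isUnit_iff_ne_zero.mpr hn)

theorem tateMod_structure (l : ℕ) [Fact l.Prime] (hl : (l : k) ≠ 0) {g : ℕ}
    (hg : topologicalKrullDim ↥A.left = g) :
    Module.Free ℤ_[l] (AbDual.TateMod A l pt₀) ∧ Module.Finite ℤ_[l] (AbDual.TateMod A l pt₀) ∧
      Module.finrank ℤ_[l] (AbDual.TateMod A l pt₀) = 2 * g :=
  tateMod_free A l pt₀ (2 * g) (exists_pow_eq A l (Fact.out : l.Prime).one_le) fun n =>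
    card_tors k A hg (by rw [Nat.cast_pow]; exact pow_ne_zero n hl)

theorem divisible_and_card {g : ℕ} (hg : topologicalKrullDim ↥A.left = g) (hg0 : 0 < g) {n : ℕ} (hn : 0 < n) :
    (∀ a : pt₀ ⟶ A, ∃ b : pt₀ ⟶ A, b ^ n = a) ∧
    Nat.card (AbDual.torsPts A n pt₀) ∣ n ^ (2 * g) ∧
    (Nat.card (AbDual.torsPts A n pt₀) = n ^ (2 * g) ↔ (n : k) ≠ 0) := by
  haveI : Smooth A.hom := Groth.Agent.S7795.result A
  haveI : GeometricallyConnected A.hom := geometricallyConnected A.hom
  refine ⟨exists_pow_eq A n hn, ?_⟩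
  suffices H : ∀ n, 0 < n → Nat.card (AbDual.torsPts A n pt₀) ∣ n ^ (2 * g) ∧
      ((n : k) = 0 → Nat.card (AbDual.torsPts A n pt₀) < n ^ (2 * g)) from
    ⟨(H n hn).1, fun h h0 => absurd h ((H n hn).2 h0).ne, card_tors k A hg⟩
  intro n
  induction n using Nat.recOnMul with
  | zero => intro h; omega
  | one => intro _; exact ⟨by rw [card_tors_one]; exact one_dvd _, fun h => by simp at h⟩
  | prime l hl =>
    intro _
    by_cases hlk : (l : k) = 0
    · haveI : Fact l.Prime := ⟨hl⟩
      haveI : CharP k l := by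
        obtain ⟨q, hq⟩ := CharP.exists k
        have h1 : q ∣ l := (CharP.cast_eq_zero_iff k q l).mp hlk
        rcases (Nat.dvd_prime hl).mp h1 with rfl | rfl
        · exact absurd rfl (CharP.ringChar_ne_one (R := k) |> fun h e => h (by rw [ringChar.eq k 1]))
        · exact hq
      obtain ⟨i, hi, hG⟩ := exists_pRank A l hg
      obtain ⟨e⟩ := hG 1
      have hc : Nat.card (AbDual.torsPts A l pt₀) = l ^ i := by
        have h1 := Nat.card_congr e.toEquiv
        rw [pow_one] at h1
        haveI : NeZero l := ⟨hl.ne_zero⟩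
        rw [h1, Nat.card_congr Multiplicative.toAdd, Nat.card_fun, Nat.card_fin, Nat.card_zmod]
      rw [hc]
      exact ⟨pow_dvd_pow l (by omega), fun _ => Nat.pow_lt_pow_right hl.one_lt (by omega)⟩
    · exact ⟨(card_tors k A hg hlk).dvd, fun h => absurd h hlk⟩
  | mul a b iha ihb =>
    intro hab
    have ha : 0 < a := Nat.pos_of_mul_pos_right hab
    have hb : 0 < b := Nat.pos_of_mul_pos_left hab
    obtain ⟨da, la⟩ := iha ha
    obtain ⟨db, lb⟩ := ihb hb
    rw [card_tors_mul A pt₀ a b (exists_pow_eq A a ha), _root_.mul_pow]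
    refine ⟨mul_dvd_mul da db, fun h => ?_⟩
    have pa : 0 < a ^ (2 * g) := pow_pos ha _
    have pb : 0 < b ^ (2 * g) := pow_pos hb _
    rw [Nat.cast_mul, mul_eq_zero] at h
    rcases h with h | h
    · exact lt_of_le_of_lt (Nat.mul_le_mul_left _ (Nat.le_of_dvd pb db)) (Nat.mul_lt_mul_of_pos_right (la h) pb)
    · exact lt_of_le_of_lt (Nat.mul_le_mul_right _ (Nat.le_of_dvd pa da)) (Nat.mul_lt_mul_of_pos_left (lb h) pa)

end Groth.Agent.TorsPtsLib
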