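import Groth.Agent.TorsPtsLib.TateLift
import Groth.Prelude.Def_EndTate

/-!
Torsion-freeness of the cokernel of `ℤ_l ⊗ Hom(A, B) → Hom(T_l A, T_l B)`.
-/

set_option autoImplicit false
set_option linter.style.haveILetI false

universe u

open CategoryTheory CategoryTheory.Limits MonoidalCategory CartesianMonoidalCategory MonObj AlgebraicGeometry

namespace Groth.Agent.TorsPtsLib

variable {k : Type u} [Field k] {Ω : Type u} [Field Ω] [Algebra k Ω] [IsAlgClosed Ω]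
  (A B : Over (Spec (CommRingCat.of k))) [GrpObj A] [IsCommMonObj A] [IsProper A.hom] [GeometricallyIntegral A.hom]
  [GrpObj B] [IsCommMonObj B] [IsProper B.hom] [GeometricallyIntegral B.hom]

local notation "pΩ" => Over.mk (Spec.map (CommRingCat.ofHom (algebraMap k Ω)))

/-- `T_l` of a multiple. -/
theorem tateMap_eq_pow_smul (l : ℕ) [Fact l.Prime] (n : ℕ) (φ ψ : EndAV.Hom A B)
    (h : φ.toHom = (𝟙 A ^ (l ^ n)) ≫ ψ.toHom) :
    EndAV.Hom.tateMap l pΩ φ = ((l : ℤ_[l]) ^ n) • EndAV.Hom.tateMap l pΩ ψ := by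
  have hφ : φ = (l ^ n) • ψ := EndAV.Hom.ext (by rw [h, EndAV.Hom.toHom_nsmul, MonObj.pow_comp, Category.id_comp])
  rw [hφ, map_nsmul, ← Nat.cast_pow, Nat.cast_smul_eq_nsmul]

/-- Torsion-free cokernel. -/
theorem mem_span_tateMap (l : ℕ) [Fact l.Prime] (hl : (l : k) ≠ 0)
    (u : AbDual.TateMod A l pΩ →ₗ[ℤ_[l]] AbDual.TateMod B l pΩ) (n : ℕ)
    (hu : ((l : ℤ_[l]) ^ n) • u ∈ Submodule.span ℤ_[l] (Set.range (EndAV.Hom.tateMap (A := A) (B := B) l pΩ))) :
    u ∈ Submodule.span ℤ_[l] (Set.range (EndAV.Hom.tateMap (A := A) (B := B) l pΩ)) := by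
  classical
  obtain ⟨g, hg⟩ := exists_dim A
  obtain ⟨g', hg'⟩ := exists_dim B
  have hdiv := (geom_points (Spec.map (CommRingCat.ofHom (algebraMap k Ω))) A hg).1 l (Fact.out : l.Prime).pos
  have hlΩ : (l : Ω) ≠ 0 := by
    rw [← map_natCast (algebraMap k Ω)]
    exact (map_ne_zero _).mpr hl
  haveI : Module.Free ℤ_[l] (AbDual.TateMod B l pΩ) :=
    ((geom_points (Spec.map (CommRingCat.ofHom (algebraMap k Ω))) B hg').2.2 l hlΩ).1
  obtain ⟨c, hc⟩ := Finsupp.mem_span_range_iff_exists_finsupp.mp hu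
  have hb : ∀ a : ℤ_[l], ∃ b, a = (a.appr n : ℤ_[l]) + (l : ℤ_[l]) ^ n * b := fun a => by
    obtain ⟨b, hb⟩ := Ideal.mem_span_singleton.mp (PadicInt.appr_spec n a)
    exact ⟨b, by rw [← hb]; ring⟩
  choose b hb using hb
  let T := EndAV.Hom.tateMap (A := A) (B := B) l pΩ
  let ψ : EndAV.Hom A B := ∑ i ∈ c.support, (c i).appr n • i
  let w := ∑ i ∈ c.support, b (c i) • T i
  have hψ : T ψ = ((l : ℤ_[l]) ^ n) • (u - w) := by
    have hsum : ((l : ℤ_[l]) ^ n) • u = T ψ + ((l : ℤ_[l]) ^ n) • w := by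
      rw [← hc, Finsupp.sum, map_sum, Finset.smul_sum, ← Finset.sum_add_distrib]
      refine Finset.sum_congr rfl fun i _ => ?_
      conv_lhs => rw [hb (c i)]
      rw [add_smul, mul_smul, map_nsmul, Nat.cast_smul_eq_nsmul]
    rw [smul_sub, hsum, add_sub_cancel_right]
  obtain ⟨ψ', hψ', hfac⟩ := exists_factor A B ψ.toHom (by rw [Nat.cast_pow]; exact pow_ne_zero n hl)
    (kills_torsion pΩ l hdiv ψ.toHom n (u - w) hψ)
  have h : T (EndAV.Hom.of ψ') = u - w := by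
    refine smul_right_injective _ (pow_ne_zero n (Nat.cast_ne_zero.mpr (Fact.out : l.Prime).ne_zero)) (?_ :
      ((l : ℤ_[l]) ^ n) • T (EndAV.Hom.of ψ') = ((l : ℤ_[l]) ^ n) • (u - w))
    rw [← hψ]
    exact (tateMap_eq_pow_smul A B l n ψ (EndAV.Hom.of ψ') hfac).symm
  rw [eq_sub_iff_add_eq.mp h |>.symm]
  exact add_mem (Submodule.subset_span ⟨_, rfl⟩)
    (sum_mem fun i _ => Submodule.smul_mem _ _ (Submodule.subset_span ⟨i, rfl⟩))

end Groth.Agent.TorsPtsLib
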