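import Groth.Agent.TorsPtsLib.BC
import Mathlib.LinearAlgebra.FreeModule.PID
import Mathlib.AlgebraicGeometry.Morphisms.ClosedImmersion

/-!
Tate modules along a closed immersion.
-/

set_option autoImplicit false
set_option linter.style.haveILetI false

universe u

open CategoryTheory CategoryTheory.Limits MonoidalCategory CartesianMonoidalCategory MonObj AlgebraicGeometry

namespace Groth.Agent.TorsPtsLib

variable {S : Scheme.{u}} (T : Over S) (l : ℕ) [Fact l.Prime] {A B : Over S} [GrpObj A] [IsCommMonObj A]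
  [GrpObj B] [IsCommMonObj B] (i : A ⟶ B) [IsMonHom i] [IsClosedImmersion i.left]

theorem injective_and_free [Module.Finite ℤ_[l] (AbDual.TateMod B l T)] :
    Function.Injective (AbDual.tateMapₗ (l := l) (T := T) i) ∧
      Module.Free ℤ_[l] (AbDual.TateMod B l T ⧸ LinearMap.range (AbDual.tateMapₗ (l := l) (T := T) i)) := by
  classical
  let f := AbDual.tateMapₗ (l := l) (T := T) i
  have hmono : ∀ a b : T ⟶ A, a ≫ i = b ≫ i → a = b := fun a b h =>
    Over.OverMorphism.ext ((cancel_mono i.left).mp (congrArg CommaMorphism.left h))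
  have hinj : Function.Injective f := fun x y h => AbDual.TateMod.ext fun n => by
    refine Additive.toMul.injective (hmono _ _ ?_)
    exact congrArg (fun z : AbDual.TateMod B l T => ((z : ℕ → Additive (T ⟶ B)) n).toMul) h
  refine ⟨hinj, ?_⟩
  have hl : ∀ y : AbDual.TateMod B l T, (l : ℤ_[l]) • y ∈ LinearMap.range f → y ∈ LinearMap.range f := by
    rintro y ⟨x, hx⟩
    have hxy : ∀ n, ((x : ℕ → Additive (T ⟶ A)) (n + 1)).toMul ≫ i = ((y : ℕ → Additive (T ⟶ B)) n).toMul := fun n => by
      have h1 := congrArg (fun z : AbDual.TateMod B l T => ((z : ℕ → Additive (T ⟶ B)) (n + 1)).toMul) hx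
      refine h1.trans ?_
      show ((((l : ℤ_[l]) • y : AbDual.TateMod B l T) : ℕ → Additive (T ⟶ B)) (n + 1)).toMul = _
      rw [Nat.cast_smul_eq_nsmul]
      exact congrArg Additive.toMul (y.compat n)
    refine ⟨⟨fun n => (x : ℕ → Additive (T ⟶ A)) (n + 1), ⟨fun n => ?_, fun n => x.compat (n + 1)⟩⟩, ?_⟩
    · refine Additive.toMul.injective (hmono _ _ ?_)
      show (((x : ℕ → Additive (T ⟶ A)) (n + 1)).toMul ^ (l ^ n)) ≫ i = (1 : T ⟶ A) ≫ i
      rw [MonObj.pow_comp, hxy, MonObj.one_comp]
      exact congrArg Additive.toMul (y.torsion n)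
    · exact AbDual.TateMod.ext fun n => congrArg Additive.ofMul (hxy n)
  have hpow : ∀ (e : ℕ) (y : AbDual.TateMod B l T), (l : ℤ_[l]) ^ e • y ∈ LinearMap.range f → y ∈ LinearMap.range f := by
    intro e
    induction e with
    | zero => intro y h; simpa using h
    | succ e ih => intro y h; rw [pow_succ', mul_smul] at h; exact ih y (hl _ h)
  haveI : Module.IsTorsionFree ℤ_[l] (AbDual.TateMod B l T ⧸ LinearMap.range f) := by
    refine ⟨fun r hr => ?_⟩
    intro a b h
    obtain ⟨a, rfl⟩ := Submodule.mkQ_surjective _ a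
    obtain ⟨b, rfl⟩ := Submodule.mkQ_surjective _ b
    refine (Submodule.Quotient.eq _).mpr ?_
    have h' : r • a - r • b ∈ LinearMap.range f := (Submodule.Quotient.eq _).mp h
    rw [← smul_sub, PadicInt.unitCoeff_spec hr.ne_zero, mul_smul] at h'
    have h2 := Submodule.smul_mem _ ((PadicInt.unitCoeff hr.ne_zero)⁻¹ : ℤ_[l]ˣ).val h'
    rw [smul_smul, Units.inv_mul, one_smul] at h2
    exact hpow _ _ h2
  exact Module.free_of_finite_type_torsion_free'

end Groth.Agent.TorsPtsLib
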