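import Groth.Agent.TorsPtsLib.BC
import Mathlib.AlgebraicGeometry.Sites.Fpqc
import Mathlib.RingTheory.Etale.Field

/-!
A homomorphism killing the geometric `N`-torsion is divisible by `N`.
-/

set_option autoImplicit false
set_option linter.style.haveILetI false

universe u

open CategoryTheory CategoryTheory.Limits MonoidalCategory CartesianMonoidalCategory MonObj GrpObj AlgebraicGeometry

namespace Groth.Agent.TorsPtsLib

variable {k : Type u} [Field k]

/-- The `N`-torsion scheme is reduced when `N` is invertible. -/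
theorem isReduced_tors (A : Over (Spec (CommRingCat.of k))) [GrpObj A] [IsProper A.hom] [Smooth A.hom]
    [GeometricallyConnected A.hom] {N : ℕ} (hN : IsUnit (N : k)) :
    IsReduced (Groth.Agent.H23.TorsRed.tors A N) ∧ IsFinite (pullback.fst (η[A]).left (𝟙 A ^ N : A ⟶ A).left) := by
  have : GeometricallyReduced A.hom := Groth.Agent.H23.RigidGamma.geometricallyReduced_of_smooth A.hom
  have hunit := eq_of_ne_zero hN
  have he := Groth.Agent.H23.MulEtale.etale_zpow (X := A) (N : ℤ) hunit
  have hf := Groth.Agent.H23.MulEtale.isFinite_zpow (X := A) (N : ℤ) hunit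
  simp only [zpow_natCast] at he hf
  let q := pullback.fst (η[A]).left (𝟙 A ^ N : A ⟶ A).left
  have hqe : Etale q := MorphismProperty.of_isPullback (P := @Etale) (IsPullback.of_hasPullback (η[A]).left (𝟙 A ^ N : A ⟶ A).left).flip he
  have hqf : IsFinite q := MorphismProperty.of_isPullback (P := @IsFinite) (IsPullback.of_hasPullback (η[A]).left (𝟙 A ^ N : A ⟶ A).left).flip hf
  refine ⟨?_, hqf⟩
  have : IsAffine (𝟙_ (Over (Spec (CommRingCat.of k)))).left := inferInstanceAs (IsAffine (Spec (CommRingCat.of k)))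
  have : IsAffine (Groth.Agent.H23.TorsRed.tors A N) := isAffine_of_isAffineHom q
  let Z := Groth.Agent.H23.TorsRed.tors A N
  let C := Γ(Z, ⊤)
  obtain ⟨φ, hφ⟩ := Spec.map_surjective (R := CommRingCat.of k) (S := CommRingCat.of C) (Z.isoSpec.inv ≫ q)
  let : Algebra k C := φ.hom.toAlgebra
  have h2 : Etale (Spec.map φ) := by rw [hφ]; infer_instance
  have : Algebra.Etale k C := by rw [HasRingHomProperty.Spec_iff (P := @Etale)] at h2; exact h2
  haveI : _root_.IsReduced C := Algebra.FormallyUnramified.isReduced_of_field k C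
  haveI : IsReduced (Spec (CommRingCat.of C)) := inferInstance
  exact isReduced_of_isOpenImmersion Z.isoSpec.hom

variable {Ω : Type u} [Field Ω] [Algebra k Ω] [IsAlgClosed Ω]
  (A B : Over (Spec (CommRingCat.of k))) [GrpObj A] [IsCommMonObj A] [IsProper A.hom] [GeometricallyIntegral A.hom]
  [GrpObj B] [IsCommMonObj B] [IsSeparated B.hom]

local notation "pΩ" => Over.mk (Spec.map (CommRingCat.ofHom (algebraMap k Ω)))

/-- A homomorphism which kills the geometric `N`-torsion factors through multiplication by `N`. -/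
theorem exists_factor (φ : A ⟶ B) [IsMonHom φ] {N : ℕ} (hN : (N : k) ≠ 0)
    (h : ∀ x : pΩ ⟶ A, x ^ N = 1 → x ≫ φ = 1) :
    ∃ ψ : A ⟶ B, IsMonHom ψ ∧ φ = (𝟙 A ^ N) ≫ ψ := by
  haveI : Smooth A.hom := Groth.Agent.S7795.result A
  haveI : GeometricallyConnected A.hom := geometricallyConnected A.hom
  obtain ⟨hred, hqf⟩ := isReduced_tors A (isUnit_iff_ne_zero.mpr hN)
  let Z := Groth.Agent.H23.TorsRed.tors A N
  let q : Z ⟶ Spec (CommRingCat.of k) := pullback.fst (η[A]).left (𝟙 A ^ N : A ⟶ A).left
  let incl : Over.mk q ⟶ A := Over.homMk (pullback.snd _ _) (by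
    show pullback.snd _ _ ≫ A.hom = q
    rw [← Over.w (𝟙 A ^ N : A ⟶ A), ← pullback.condition_assoc, Over.w η[A]]
    exact Category.comp_id _)
  -- the kernel is killed
  haveI : IsReduced (Over.mk q).left := hred
  have hkill : incl ≫ φ = 1 := by
    refine Over.OverMorphism.ext (ext_of_fromSpecResidueField_eq _ _ B.hom Set.univ dense_univ (fun z _ => ?_)
      ((Over.w (incl ≫ φ)).trans (Over.w (1 : Over.mk q ⟶ B)).symm))
    let κ : Type u := Z.residueField z
    obtain ⟨ρ, hρ⟩ := Spec.map_surjective (R := CommRingCat.of k) (S := CommRingCat.of κ) (Z.fromSpecResidueField z ≫ q)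
    letI : Algebra k κ := ρ.hom.toAlgebra
    haveI : IsFinite q := hqf
    haveI : IsFinite (Spec.map ρ) := by
      haveI : JacobsonSpace Z := LocallyOfFiniteType.jacobsonSpace q
      haveI : Finite Z := Set.finite_univ_iff.mp ((Scheme.Hom.finite_preimage_singleton q (IsLocalRing.closedPoint k)).subset
        fun x _ => Subsingleton.elim (α := PrimeSpectrum k) _ _)
      have hz : IsClosed ({z} : Set Z) := isClosed_singleton
      rw [isClosed_singleton_iff_isClosedImmersion] at hz
      rw [hρ]
      haveI : IsClosedImmersion (Z.fromSpecResidueField z) := hz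
      haveI : IsFinite (Z.fromSpecResidueField z) := inferInstance
      infer_instance
    haveI : Module.Finite k κ := by rw [IsFinite.SpecMap_iff] at *; assumption
    let σ : κ →ₐ[k] Ω := IsAlgClosed.lift
    let s := Spec.map (CommRingCat.ofHom (σ : κ →+* Ω))
    haveI : Flat s := by
      letI : Algebra κ Ω := (σ : κ →+* Ω).toAlgebra
      rw [HasRingHomProperty.Spec_iff (P := @Flat)]
      show (algebraMap κ Ω).Flat
      rw [RingHom.flat_algebraMap_iff]
      infer_instance
    haveI : Surjective s := ⟨fun p => ⟨IsLocalRing.closedPoint Ω, @Subsingleton.elim (PrimeSpectrum κ) _ _ _⟩⟩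
    haveI : Epi s := Flat.epi_of_flat_of_surjective s
    rw [← cancel_epi s]
    let t : pΩ ⟶ Over.mk q := Over.homMk (s ≫ Z.fromSpecResidueField z) (by
      show (s ≫ Z.fromSpecResidueField z) ≫ q = _
      rw [Category.assoc, ← hρ, ← Spec.map_comp]
      congr 1
      exact CommRingCat.hom_ext (RingHom.ext σ.commutes))
    have hx : (t ≫ incl) ^ N = 1 :=
      ((Groth.Agent.H23.TorsRed.ptsEquiv A N pΩ).symm ⟨t.left, Over.w t⟩).2
    have e1 : (t ≫ incl) ≫ φ = 1 := h _ hx
    have e2 : t ≫ (1 : Over.mk q ⟶ B) = 1 := MonObj.comp_one t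
    have e3 := congrArg CommaMorphism.left (e2.trans e1.symm)
    simp only [Over.comp_left, Category.assoc] at e3 ⊢
    exact ((Category.assoc _ _ _).symm.trans (e3.symm.trans (Category.assoc _ _ _)))
  -- descent along multiplication by N
  obtain ⟨hfin, hflat, hsurj⟩ := AVDegLib.zpow_props (A := A) (N : ℤ)
    (Int.natCast_ne_zero.mpr fun e => hN (by rw [e, Nat.cast_zero]))
  simp only [zpow_natCast] at hfin hflat hsurj
  let π : A ⟶ A := 𝟙 A ^ N
  have hπ : π = 𝟙 A ^ N := rfl
  have hagree : ∀ {W : Scheme.{u}} (g₁ g₂ : W ⟶ A.left), g₁ ≫ π.left = g₂ ≫ π.left → g₁ ≫ φ.left = g₂ ≫ φ.left := by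
    intro W g₁ g₂ e
    have hw : g₁ ≫ A.hom = g₂ ≫ A.hom := by rw [← Over.w π, ← Category.assoc, e, Category.assoc]
    let T : Over (Spec (CommRingCat.of k)) := Over.mk (g₁ ≫ A.hom)
    let a : T ⟶ A := Over.homMk g₁ rfl
    let b : T ⟶ A := Over.homMk g₂ hw.symm
    have hab : a ≫ π = b ≫ π := Over.OverMorphism.ext e
    rw [hπ, MonObj.comp_pow, MonObj.comp_pow, Category.comp_id, Category.comp_id] at hab
    have hd : (a / b) ^ N = 1 := by rw [div_pow, hab, div_self']
    let t := Groth.Agent.H23.TorsRed.ptsEquiv A N T ⟨a / b, hd⟩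
    let tO : T ⟶ Over.mk q := Over.homMk t.1 t.2
    have hfac : a / b = tO ≫ incl :=
      Over.OverMorphism.ext (congrArg (fun z : {c : T ⟶ A // c ^ N = 1} => z.1.left)
        ((Groth.Agent.H23.TorsRed.ptsEquiv A N T).symm_apply_apply ⟨a / b, hd⟩)).symm
    have h1 : (a / b) ≫ φ = 1 := by rw [hfac, Category.assoc, hkill, MonObj.comp_one]
    have hmb : a ≫ φ = b ≫ φ := by
      have : ((a / b) * b) ≫ φ = a ≫ φ := by rw [div_mul_cancel]
      rw [← this, MonObj.mul_comp, h1, _root_.one_mul]
    exact congrArg CommaMorphism.left hmb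
  haveI : LocallyOfFinitePresentation π.left := AVDegLib.lfp_endo π
  let ψl : A.left ⟶ B.left := EffectiveEpi.desc π.left φ.left hagree
  have hψl : π.left ≫ ψl = φ.left := EffectiveEpi.fac π.left φ.left hagree
  haveI : Epi π.left := inferInstance
  let ψ : A ⟶ B := Over.homMk ψl (by rw [← cancel_epi π.left, ← Category.assoc, hψl, Over.w, Over.w])
  have hψ : π ≫ ψ = φ := Over.OverMorphism.ext hψl
  haveI : IsMonHom π := AVDegLib.isMonHom_pow N
  refine ⟨ψ, ?_, hψ.symm⟩
  have hone : η[A] ≫ ψ = η[B] := by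
    rw [← IsMonHom.one_hom (f := π), Category.assoc, hψ, IsMonHom.one_hom]
  refine ⟨hone, ?_⟩
  -- additivity after pulling back along π ⊗ π
  haveI : MorphismProperty.IsStableUnderComposition @Surjective := ⟨fun f g _ _ => inferInstance⟩
  haveI : Surjective (π ⊗ₘ π).left := by
    haveI : Surjective (pullback.map A.hom A.hom A.hom A.hom π.left π.left (𝟙 _)
      ((Category.comp_id _).trans (Over.w π).symm) ((Category.comp_id _).trans (Over.w π).symm)) :=
      MorphismProperty.pullbackMap (P := @Surjective) hsurj hsurj (Over.w π).symm (Over.w π).symm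
    exact this
  haveI : Flat (π ⊗ₘ π).left := by
    haveI : Flat (pullback.map A.hom A.hom A.hom A.hom π.left π.left (𝟙 _)
      ((Category.comp_id _).trans (Over.w π).symm) ((Category.comp_id _).trans (Over.w π).symm)) :=
      MorphismProperty.pullbackMap (P := @Flat) hflat hflat (Over.w π).symm (Over.w π).symm
    exact this
  haveI : Epi (π ⊗ₘ π).left := Flat.epi_of_flat_of_surjective _
  refine Over.OverMorphism.ext ((cancel_epi (π ⊗ₘ π).left).mp ?_)
  rw [← Over.comp_left, ← Over.comp_left]
  congr 1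
  rw [← Category.assoc, ← IsMonHom.mul_hom (f := π), Category.assoc, hψ, IsMonHom.mul_hom, ← Category.assoc,
    tensorHom_comp_tensorHom, hψ]

end Groth.Agent.TorsPtsLib
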